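import Cfsg.Agent.H862.S5.SOrth
import Cfsg.Agent.H650.S5.Rel

/-!
# `TwoS p K` from the strong row of `PSL₂(K)` (S2274; helper862)
-/

set_option autoImplicit false
set_option linter.unusedSectionVars false

namespace Cfsg.Agent.H862.S5.STwo

open Cfsg.Agent.H957.T5V Cfsg.Agent.H957.T5Tr Cfsg.Agent.H533.T5
open Cfsg.Agent.H903.SylSemi (Ind scal scal_apply)
open Cfsg.Agent.H897.MeetPSL Matrix
open Cfsg.Agent.H199.PslAut
open Cfsg.Agent.ClassicalGeometry.AutPSL.Root
open Cfsg.Agent.ClassicalGeometry.AutPSL.Auto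
open Cfsg.Agent.H650.S5 (exists_ind_psl scal_of_ind_one semi_rho)
open Cfsg.Agent.H862.S5.SBase (SP isSolvable_of_rel)
open Cfsg.Agent.H862.S5.SOrth

variable {K : Type} [Field K]

/-- semilinear maps and the automorphisms of `PSL₂(K)` -/
def IndM (K : Type) [Field K] :
    Submonoid (Equiv.Perm (Fin 2 → K) × MulAut (ProjectiveSpecialLinearGroup (Fin 2) K)) where
  carrier := {z | (∃ σ : K ≃+* K, Semi σ z.1) ∧ Ind (pr : SpecialLinearGroup (Fin 2) K →* _) (rho 2 K) z.1 z.2}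
  mul_mem' := by
    rintro ⟨a, b⟩ ⟨a', b'⟩ ⟨⟨σ, h1⟩, h2⟩ ⟨⟨σ', h1'⟩, h2'⟩
    exact ⟨⟨σ * σ', h1.mul h1'⟩, h2.mul h2'⟩
  one_mem' := ⟨⟨1, Semi.one⟩, Ind.one _ _⟩

theorem ind_one_of_isScal {z : Equiv.Perm (Fin 2 → K)} {γ : MulAut (ProjectiveSpecialLinearGroup (Fin 2) K)}
    (h : Ind (pr : SpecialLinearGroup (Fin 2) K →* _) (rho 2 K) z γ) (hz : IsScal K z) : γ = 1 := by
  obtain ⟨a, rfl⟩ := exists_scal hz
  exact Ind.unique pr_surjective rho_injective h (ind_scal semi_rho a)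

theorem rho_eq_toA (s : SpecialLinearGroup (Fin 2) K) :
    rho 2 K s = toA (Matrix.SpecialLinearGroup.toLin' s) := by
  ext1 v
  rw [rho_apply]
  rfl

theorem toLin'_mem (s : SpecialLinearGroup (Fin 2) K) :
    (Matrix.SpecialLinearGroup.toLin' s : (Fin 2 → K) ≃ₗ[K] (Fin 2 → K)) ∈ SLg K (Fin 2 → K) := by
  have h1 : LinearEquiv.det (Matrix.SpecialLinearGroup.toLin' s : (Fin 2 → K) ≃ₗ[K] (Fin 2 → K)) = 1 := by
    apply Units.ext
    rw [LinearEquiv.coe_det, Units.val_one]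
    show LinearMap.det (Matrix.toLin' (s : Matrix (Fin 2) (Fin 2) K)) = 1
    rw [LinearMap.det_toLin']
    exact s.2
  exact h1

theorem twoS_of_srow [Finite K] {p : ℕ} (hp : p.Prime)
    (h : SRow p (ProjectiveSpecialLinearGroup (Fin 2) K)) : TwoS p K := by
  have hfin : Finite (ProjectiveSpecialLinearGroup (Fin 2) K) := Quotient.finite _
  have hfin' : Finite (MulAut (ProjectiveSpecialLinearGroup (Fin 2) K)) := inferInstance
  have := Fact.mk hp
  have helt : ∀ (c : Equiv.Perm (Fin 2 → K)) (σ : K ≃+* K), Semi σ c → IsScal K (c ^ p) → ¬ IsScal K c →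
      ∃ γ, (c, γ) ∈ IndM K ∧ orderOf γ = p := by
    intro c σ hc hcp hcn
    obtain ⟨γ, hγ⟩ := exists_ind_psl hc
    refine ⟨γ, ⟨⟨σ, hc⟩, hγ⟩, orderOf_eq_prime (ind_one_of_isScal (hγ.pow p) hcp) ?_⟩
    rintro rfl
    obtain ⟨a, rfl⟩ := scal_of_ind_one hc hγ
    exact hcn (isScal_scal a)
  intro c d σ τ hc hd hcp hcn hdp hdn
  obtain ⟨γ, hcγ, hγ⟩ := helt c σ hc hcp hcn
  obtain ⟨δ, hdδ, hδ⟩ := helt d τ hd hdp hdn
  have hcj : ∀ s : SpecialLinearGroup (Fin 2) K,
      (toA (Matrix.SpecialLinearGroup.toLin' s) * d * (toA (Matrix.SpecialLinearGroup.toLin' s))⁻¹,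
        MulAut.conj (pr s) * δ * (MulAut.conj (pr s))⁻¹) ∈ IndM K := by
    intro s
    have h1 : (rho 2 K s, MulAut.conj (pr s : ProjectiveSpecialLinearGroup (Fin 2) K)) ∈ IndM K :=
      ⟨⟨1, semi_rho s⟩, Ind.conj _ _ s⟩
    have h2 := (IndM K).mul_mem ((IndM K).mul_mem h1 hdδ) (SBase.inv_mem_sub (IndM K) h1)
    rw [← rho_eq_toA]
    exact h2
  obtain ⟨⟨_, ⟨t, rfl⟩, h1⟩, ⟨_, ⟨t', rfl⟩, h2⟩⟩ := h γ δ hγ hδ
  obtain ⟨s, rfl⟩ := pr_surjective t
  obtain ⟨s', rfl⟩ := pr_surjective t'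
  refine ⟨⟨_, toLin'_mem s, fun hs => h1 ?_⟩, ⟨_, toLin'_mem s', fun k hk => ?_⟩⟩
  · refine isSolvable_of_rel (IndM K) ?_ hcγ (hcj s) hs
    rintro b b' ⟨-, hb⟩ ⟨-, hb'⟩
    have e1 : b = 1 := ind_one_of_isScal hb SBase.isScal_one
    have e2 : b' = 1 := ind_one_of_isScal hb' SBase.isScal_one
    rw [e1, e2]
  · rw [SBase.not_orderOf_iff hp] at h2
    apply h2 k
    have h3 := (IndM K).pow_mem ((IndM K).mul_mem hcγ (hcj s')) (p ^ k)
    exact ind_one_of_isScal h3.2 hk

/-- small fields -/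
theorem twoS_small [Finite K] {p : ℕ} (hp : p.Prime) (hp5 : 5 ≤ p) (h3 : Nat.card K ≤ 3) : TwoS p K := by
  have := Fact.mk hp
  intro c d σ τ hc hd hcp hcn hdp hdn
  exfalso
  apply hcn
  -- the automorphism group of a field with at most three elements
  have hσ : σ = 1 := by
    ext x
    by_contra hx
    have hx' : σ x ≠ x := hx
    have h0 : x ≠ 0 := by
      rintro rfl
      exact hx' (map_zero σ)
    have h1 : x ≠ 1 := by
      rintro rfl
      exact hx' (map_one σ)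
    have h2 : σ x ≠ 0 := by simpa using h0
    have h4 : σ x ≠ 1 := by
      intro h
      exact h1 (σ.injective (by rw [h, map_one]))
    have := Fintype.ofFinite K
    classical
    have h5 : ({0, 1, x, σ x} : Finset K).card = 4 := by
      rw [Finset.card_insert_of_notMem, Finset.card_insert_of_notMem, Finset.card_insert_of_notMem,
        Finset.card_singleton]
      · simpa using fun h => hx' h.symm
      · simp [h1.symm, h4.symm]
      · simp [h0.symm, h2.symm]
    have h6 := Finset.card_le_univ ({0, 1, x, σ x} : Finset K)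
    rw [h5] at h6
    rw [Nat.card_eq_fintype_card] at h3
    omega
  subst hσ
  obtain ⟨g, rfl⟩ := exists_toA hc
  obtain ⟨a, ha⟩ := hcp
  -- the order of the general linear group
  let eG : GL (Fin 2) K ≃* ((Fin 2 → K) ≃ₗ[K] (Fin 2 → K)) :=
    Matrix.GeneralLinearGroup.toLin.trans (LinearMap.GeneralLinearGroup.generalLinearEquiv K (Fin 2 → K))
  have hfinG : Finite ((Fin 2 → K) ≃ₗ[K] (Fin 2 → K)) := Finite.of_equiv _ eG.toEquiv
  have hcard : ¬ p ∣ Nat.card ((Fin 2 → K) ≃ₗ[K] (Fin 2 → K)) := by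
    have := Fintype.ofFinite K
    rw [← Nat.card_congr eG.toEquiv, Matrix.card_GL_field, Fin.prod_univ_two]
    rw [Nat.card_eq_fintype_card] at h3
    have h4 : 2 ≤ Fintype.card K := Fintype.one_lt_card
    intro h
    have h5 : p ∣ 2 ^ 4 * 3 := by
      refine h.trans ?_
      generalize Fintype.card K = q at *
      interval_cases q <;> decide
    rcases (Nat.Prime.dvd_mul hp).1 h5 with h6 | h6
    · have := Nat.le_of_dvd (by norm_num) (hp.dvd_of_dvd_pow h6)
      omega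
    · have := Nat.le_of_dvd (by norm_num) h6
      omega
  have ha2 : a * a = 1 := by
    have := Fintype.ofFinite K
    rw [Nat.card_eq_fintype_card] at h3
    have ha0 : a ≠ 0 := by
      rintro rfl
      have h5 := ha 1
      rw [zero_smul] at h5
      have h6 : (toA g ^ p) 0 = 0 := by rw [ha, smul_zero]
      rw [← h6] at h5
      exact one_ne_zero ((toA g ^ p).injective h5)
    have h4 : 2 ≤ Fintype.card K := Fintype.one_lt_card
    have h5 := FiniteField.pow_card_sub_one_eq_one a ha0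
    have h6 : Fintype.card K = 2 ∨ Fintype.card K = 3 := by omega
    rcases h6 with h6 | h6
    · rw [h6, pow_one] at h5
      rw [h5, one_mul]
    · rw [h6] at h5
      rw [← pow_two]
      exact h5
  have hgp : ∀ v, (g ^ p) v = a • v := fun v => by
    have h5 := ha v
    rw [← map_pow] at h5
    exact h5
  have h2p : (g ^ 2) ^ p = 1 := by
    rw [← pow_mul, mul_comm, pow_mul]
    ext1 v
    rw [pow_two, LinearEquiv.mul_apply, hgp, hgp, smul_smul, ha2, one_smul]
    rfl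
  have h2 : g ^ 2 = 1 := by
    by_contra hne
    apply hcard
    rw [← orderOf_eq_prime h2p hne]
    exact orderOf_dvd_natCard _
  obtain ⟨k, hk⟩ := hp.odd_of_ne_two (by omega)
  refine ⟨a, fun v => ?_⟩
  rw [toA_apply, ← hgp, hk, pow_succ, pow_mul, h2, one_pow, one_mul]

/-- `TwoS p K` for all finite fields, from the rows of `PSL₂(K)`. -/
theorem twoS_all {p : ℕ} (hp : p.Prime) (hp5 : 5 ≤ p)
    (hR : ∀ (K : Type) [Field K] [Finite K], 4 ≤ Nat.card K → (p : K) ≠ 0 →
      SRow p (ProjectiveSpecialLinearGroup (Fin 2) K)) (K : Type) [Field K] [Finite K] (hpK : (p : K) ≠ 0) :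
    TwoS p K := by
  by_cases h : Nat.card K ≤ 3
  · exact twoS_small hp hp5 h
  · exact twoS_of_srow hp (hR K (by omega) hpK)

end Cfsg.Agent.H862.S5.STwo
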