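import Cfsg.Agent.H862.S5.SRowO
import Cfsg.Agent.H862.S5.STwo
import Cfsg.Agent.H212.S5.PslTwo
import Cfsg.Agent.H140.S5.PSL2Own
import Cfsg.Agent.H650.S5.OmOwn

/-!
# The strong rows of the orthogonal groups (S2274, tasks C6 and O3; helper862)

`twoS` : the strong pair theorem for `ΓL₂(K)` modulo scalars, `K` finite of characteristic different from `p`.
`srowFam_odd`, `srowFam_plus`, `srowFam_minus` : all characteristics.
-/

set_option autoImplicit false

namespace Cfsg.Agent.H862.S5.SFamO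

open Cfsg Cfsg.Agent.H533.T5 Cfsg.Agent.H132.S5
open Cfsg.Agent.H862.S5.SOrth Cfsg.Agent.H862.S5.SRowO

universe u

theorem not_dvd_card {p : ℕ} (hp : p.Prime) {K : Type*} [Field K] [Fintype K] (hpK : (p : K) ≠ 0) :
    ¬ p ∣ Fintype.card K := by
  have := Fact.mk hp
  exact Cfsg.Agent.H862.T5.OBlock.not_dvd_card hpK

/-- the strong row of `PSL₂(K)` in cross characteristic -/
theorem srow_psl2 {p : ℕ} (B : SBox.{0} p) (hp : p.Prime) (hp5 : 5 ≤ p) (K : Type) [Field K] [Finite K]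
    (h4 : 4 ≤ Nat.card K) (hpK : (p : K) ≠ 0) : SRow p (Matrix.ProjectiveSpecialLinearGroup (Fin 2) K) := by
  have := Fintype.ofFinite K
  have hs : IsSimpleGroup (Matrix.ProjectiveSpecialLinearGroup (Fin 2) K) :=
    Matrix.ProjectiveSpecialLinearGroup.rank_two_simple h4
  have hfin : Finite (Matrix.ProjectiveSpecialLinearGroup (Fin 2) K) := Quotient.finite _
  have hna : ¬ IsMulCommutative (Matrix.ProjectiveSpecialLinearGroup (Fin 2) K) := by
    intro hc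
    rw [Nat.card_eq_fintype_card] at h4
    exact Cfsg.Agent.ClassicalGeometry.PSL2Solvable.not_isSolvable_psl K h4
      (IsSimpleGroup.comm_iff_isSolvable.1 hc.is_comm.comm)
  exact Cfsg.Agent.H212.S5.PslTwo.srow_psl2_cross hp hp5 (not_dvd_card hp hpK) B hna (MulEquiv.refl _)

/-- **The strong pair theorem for `ΓL₂(K)`.** -/
theorem twoS {p : ℕ} (B : SBox.{0} p) (hp : p.Prime) (hp5 : 5 ≤ p) (K : Type) [Field K] [Finite K]
    (hpK : (p : K) ≠ 0) : TwoS p K :=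
  STwo.twoS_all hp hp5 (fun K _ _ h4 hK => srow_psl2 B hp hp5 K h4 hK) K hpK

/-- the strong row of `PSL₂(K)` in own characteristic -/
theorem srow_psl2_own {p : ℕ} (B : SBox.{0} p) (hp : p.Prime) (hp5 : 5 ≤ p) (K : Type) [Field K] [Fintype K]
    [hK : CharP K p] : SRow p (Matrix.ProjectiveSpecialLinearGroup (Fin 2) K) :=
  Cfsg.Agent.H140.S5.PSL2Own.srow_psl2_own' hp hp5 B.aa B.rs (MulEquiv.refl _)

/-- **The strong row for `PΩ_{2m+1}(q)`.** -/
theorem srow_odd {p : ℕ} (B : SBox.{0} p) (hp : p.Prime) (hp5 : 5 ≤ p) {S : Type u} [Group S]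
    (hS : IsPOmegaOdd S) : SRow p S := by
  by_cases hch : IsPOmegaOddChar p S
  · obtain ⟨F, _, _, hF, m, hm, hq, ⟨e⟩⟩ := hch
    have := Fact.mk hp
    exact Cfsg.Agent.H650.S5.Om.srow_odd hm hp5 (srow_psl2_own B hp hp5 F) e
  · exact pomegaOdd_srow hS hp hp5 hch B.aa B.rs (twoS B hp hp5)

/-- **The strong row for `PΩ⁺_{2m}(q)`.** -/
theorem srow_plus {p : ℕ} (B : SBox.{0} p) (hp : p.Prime) (hp5 : 5 ≤ p) {S : Type u} [Group S]
    (hS : IsPOmegaPlus S) : SRow p S := by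
  by_cases hch : IsPOmegaPlusChar p S
  · obtain ⟨F, _, _, hF, m, hm, ⟨e⟩⟩ := hch
    have := Fact.mk hp
    exact Cfsg.Agent.H650.S5.Om.srow_plus hm hp5 (srow_psl2_own B hp hp5 F) e
  · exact pomegaPlus_srow hS hp hp5 hch B.aa B.rs (twoS B hp hp5)

/-- **The strong row for `PΩ⁻_{2m}(q)`.** -/
theorem srow_minus {p : ℕ} (B : SBox.{0} p) (hp : p.Prime) (hp5 : 5 ≤ p) {S : Type u} [Group S]
    (hS : IsPOmegaMinus S) : SRow p S := by
  by_cases hch : IsPOmegaMinusChar p S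
  · obtain ⟨F, _, _, hF, m, a, b, hm, hab, ⟨e⟩⟩ := hch
    have := Fact.mk hp
    exact Cfsg.Agent.H650.S5.Om.srow_minus (m := m - 1) (by omega) hab hp5 (srow_psl2_own B hp hp5 F) e
  · exact pomegaMinus_srow hS hp hp5 hch B.aa B.rs (twoS B hp hp5)

theorem srowFam_odd {p : ℕ} (B : SBox.{0} p) (hp : p.Prime) (hp5 : 5 ≤ p) :
    SRowFam.{u} p (fun S _ => IsPOmegaOdd S) := fun _ _ _ _ _ hS _ => srow_odd B hp hp5 hS

theorem srowFam_plus {p : ℕ} (B : SBox.{0} p) (hp : p.Prime) (hp5 : 5 ≤ p) :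
    SRowFam.{u} p (fun S _ => IsPOmegaPlus S) := fun _ _ _ _ _ hS _ => srow_plus B hp hp5 hS

theorem srowFam_minus {p : ℕ} (B : SBox.{0} p) (hp : p.Prime) (hp5 : 5 ≤ p) :
    SRowFam.{u} p (fun S _ => IsPOmegaMinus S) := fun _ _ _ _ _ hS _ => srow_minus B hp hp5 hS

end Cfsg.Agent.H862.S5.SFamO
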