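import Mathlib
import Cfsg.Agent.H957.T5Tr
import Cfsg.Agent.H533.T5.Defs

/-!
# The strong pair predicate on vector spaces (S2274; helper862)

* `isSolvable_of_rel` : solvability along a relation with commutative kernel;
* `SP F G p x y` : the strong pair predicate modulo scalars, conjugation by elements of `G ≤ GL(V)`;
* `SP.of_rel` : transfer along a relation of permutations of two spaces;
* `SP.conj_right`, `SP.conj_left`, `SP.symm`, `SP.of_scl`, `SP.mono`;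
* `srow_of` : translation to automorphisms of a group.
-/

set_option autoImplicit false
set_option linter.unusedSectionVars false

namespace Cfsg.Agent.H862.S5.SBase

open Cfsg.Agent.H957.T5V Cfsg.Agent.H533.T5

section rel

variable {A B : Type*} [Group A] [Group B] [Finite A] [Finite B]

theorem inv_mem_sub {G : Type*} [Group G] [Finite G] (M : Submonoid G) {x : G} (hx : x ∈ M) : x⁻¹ ∈ M := by
  have h : x⁻¹ ∈ Subgroup.closure (M : Set G) := inv_mem (Subgroup.subset_closure hx)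
  rw [← Subgroup.mem_toSubmonoid, Subgroup.closure_toSubmonoid_of_finite, Submonoid.closure_eq] at h
  exact h

/-- **Solvability along a relation with commutative kernel.** -/
theorem isSolvable_of_rel (M : Submonoid (A × B))
    (hK : ∀ b b', ((1 : A), b) ∈ M → ((1 : A), b') ∈ M → b * b' = b' * b) {a₁ a₂ : A} {b₁ b₂ : B}
    (h₁ : (a₁, b₁) ∈ M) (h₂ : (a₂, b₂) ∈ M)
    (hs : Group.IsSolvable ↥(Subgroup.closure ({a₁, a₂} : Set A))) :
    Group.IsSolvable ↥(Subgroup.closure ({b₁, b₂} : Set B)) := by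
  set D : Subgroup (A × B) := Subgroup.closure {(a₁, b₁), (a₂, b₂)} with hD
  have hDM : ∀ x ∈ D, x ∈ M := by
    intro x hx
    rw [hD, ← Subgroup.mem_toSubmonoid, Subgroup.closure_toSubmonoid_of_finite] at hx
    refine (Submonoid.closure_le.2 ?_) hx
    rintro y (rfl | rfl)
    · exact h₁
    · exact h₂
  have hfst : D.map (MonoidHom.fst A B) = Subgroup.closure {a₁, a₂} := by
    rw [hD, MonoidHom.map_closure]
    congr 1
    simp [Set.image_pair]
  have hsnd : D.map (MonoidHom.snd A B) = Subgroup.closure {b₁, b₂} := by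
    rw [hD, MonoidHom.map_closure]
    congr 1
    simp [Set.image_pair]
  rw [← hfst] at hs
  rw [← hsnd]
  let g := (MonoidHom.fst A B).subgroupMap D
  have hker : Group.IsSolvable ↥(g.ker) := by
    refine Group.isSolvable_of_comm ?_
    rintro ⟨⟨⟨a, b⟩, hx⟩, hxk⟩ ⟨⟨⟨a', b'⟩, hy⟩, hyk⟩
    have ha : a = 1 := congrArg Subtype.val hxk
    have ha' : a' = 1 := congrArg Subtype.val hyk
    subst ha ha'
    apply Subtype.ext
    apply Subtype.ext
    show ((1 : A) * 1, b * b') = ((1 : A) * 1, b' * b)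
    rw [hK b b' (hDM _ hx) (hDM _ hy)]
  have hDs : Group.IsSolvable ↥D :=
    Group.isSolvable_of_ker_le_range (g.ker.subtype) g (by rw [Subgroup.range_subtype])
  exact Group.isSolvable_of_surjective (f := (MonoidHom.snd A B).subgroupMap D)
    ((MonoidHom.snd A B).subgroupMap_surjective D)

end rel

variable {F V : Type*} [Field F] [AddCommGroup V] [Module F V]

variable (F) in
/-- The strong pair predicate modulo scalars. -/
def SP (G : Subgroup (V ≃ₗ[F] V)) (p : ℕ) (x y : Equiv.Perm V) : Prop :=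
  (∃ g ∈ G, ¬ Group.IsSolvable ↥(Subgroup.closure ({x, toA g * y * (toA g)⁻¹} : Set (Equiv.Perm V)))) ∧
  (∃ g ∈ G, ∀ k : ℕ, ¬ IsScal F ((x * (toA g * y * (toA g)⁻¹)) ^ p ^ k))

variable {p : ℕ} {x y : Equiv.Perm V} {G G' : Subgroup (V ≃ₗ[F] V)}

theorem SP.mono (h : SP F G p x y) (hG : G ≤ G') : SP F G' p x y := by
  obtain ⟨⟨g, hg, h1⟩, ⟨g', hg', h2⟩⟩ := h
  exact ⟨⟨g, hG hg, h1⟩, ⟨g', hG hg', h2⟩⟩

theorem SP.conj_right {T : V ≃ₗ[F] V} (hT : T ∈ G) (h : SP F G p x (toA T * y * (toA T)⁻¹)) : SP F G p x y := by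
  obtain ⟨⟨g, hg, h1⟩, ⟨g', hg', h2⟩⟩ := h
  have e : ∀ g : V ≃ₗ[F] V, toA (g * T) * y * (toA (g * T))⁻¹ = toA g * (toA T * y * (toA T)⁻¹) * (toA g)⁻¹ := by
    intro g
    rw [map_mul]; group
  exact ⟨⟨g * T, G.mul_mem hg hT, by rwa [e]⟩, ⟨g' * T, G.mul_mem hg' hT, by rwa [e]⟩⟩

theorem isScal_conj {σ : F ≃+* F} {A z : Equiv.Perm V} (hA : Semi σ A) (h : IsScal F z) :
    IsScal F (A * z * A⁻¹) := by
  obtain ⟨a, ha⟩ := h
  refine ⟨σ a, fun v => ?_⟩
  rw [Equiv.Perm.mul_apply, Equiv.Perm.mul_apply, ha, hA.smul, apply_inv_self]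

theorem isScal_one : IsScal F (1 : Equiv.Perm V) := ⟨1, fun v => (one_smul F v).symm⟩

theorem isScal_comm {b b' : Equiv.Perm V} (h : IsScal F b) (h' : IsScal F b') : b * b' = b' * b := by
  obtain ⟨a, ha⟩ := h
  obtain ⟨a', ha'⟩ := h'
  ext v
  rw [Equiv.Perm.mul_apply, Equiv.Perm.mul_apply, ha, ha', ha', ha, smul_smul, smul_smul, mul_comm]

/-- conjugation of a closure of two elements -/
theorem isSolvable_conj {H : Type*} [Group H] (c a b : H) (h : Group.IsSolvable ↥(Subgroup.closure ({a, b} : Set H))) :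
    Group.IsSolvable ↥(Subgroup.closure ({c * a * c⁻¹, c * b * c⁻¹} : Set H)) := by
  have e : Subgroup.closure ({c * a * c⁻¹, c * b * c⁻¹} : Set H) =
      (Subgroup.closure ({a, b} : Set H)).map (MulAut.conj c).toMonoidHom := by
    rw [MonoidHom.map_closure]
    congr 1
    rw [Set.image_pair]
    rfl
  rw [e]
  exact Group.isSolvable_of_surjective (f := (MulAut.conj c).toMonoidHom.subgroupMap _)
    (MonoidHom.subgroupMap_surjective _ _)

theorem SP.symm {σ : F ≃+* F} (hx : Semi σ x) (h : SP F G p x y) : SP F G p y x := by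
  obtain ⟨⟨g, hg, h1⟩, ⟨g', hg', h2⟩⟩ := h
  refine ⟨⟨g⁻¹, G.inv_mem hg, fun hs => h1 ?_⟩, ⟨g'⁻¹, G.inv_mem hg', fun k hk => h2 k ?_⟩⟩
  · have h3 := isSolvable_conj (toA g) _ _ hs
    have e : toA g * (toA g⁻¹ * x * (toA g⁻¹)⁻¹) * (toA g)⁻¹ = x := by
      rw [map_inv]; group
    rwa [e, Set.pair_comm] at h3
  · set A := toA g' * (toA g'⁻¹ * x * (toA g'⁻¹)⁻¹) with hA
    have hg'' : toA (V := V) (F := F) g'⁻¹ = (toA g')⁻¹ := map_inv _ _
    have e : x * (toA g' * y * (toA g')⁻¹) = A * (y * (toA g'⁻¹ * x * (toA g'⁻¹)⁻¹)) * A⁻¹ := by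
      rw [hA, hg'']
      group
    have hAs : Semi (1 * σ) A := (semi_toA g').mul (hx.conj _)
    rw [e, conj_pow]
    exact isScal_conj hAs hk

theorem SP.conj_left {σ : F ≃+* F} (hx : Semi σ x) {τ : F ≃+* F} (hy : Semi τ y) {T : V ≃ₗ[F] V} (hT : T ∈ G)
    (h : SP F G p (toA T * x * (toA T)⁻¹) y) : SP F G p x y :=
  SP.symm hy (SP.conj_right hT (SP.symm (hx.conj T) h))

section transfer

variable {F' U : Type*} [Field F'] [AddCommGroup U] [Module F' U] {G' : Subgroup (U ≃ₗ[F'] U)} {x' y' : Equiv.Perm U}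

/-- **Transfer.** -/
theorem SP.of_rel [Finite V] [Finite U] (M : Submonoid (Equiv.Perm V × Equiv.Perm U))
    (hM : ∀ z c, (z, c) ∈ M → IsScal F z → IsScal F' c)
    (hG : ∀ g' ∈ G', ∃ g ∈ G, (toA g, toA g') ∈ M) (hx : (x, x') ∈ M) (hy : (y, y') ∈ M)
    (h : SP F' G' p x' y') : SP F G p x y := by
  obtain ⟨⟨a', ha', h1⟩, ⟨b', hb', h2⟩⟩ := h
  obtain ⟨a, ha, haM⟩ := hG a' ha'
  obtain ⟨b, hb, hbM⟩ := hG b' hb'
  have hcj : ∀ {a : V ≃ₗ[F] V} {a' : U ≃ₗ[F'] U}, (toA a, toA a') ∈ M →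
      (toA a * y * (toA a)⁻¹, toA a' * y' * (toA a')⁻¹) ∈ M := by
    intro a a' haM
    exact M.mul_mem (M.mul_mem haM hy) (inv_mem_sub M haM)
  refine ⟨⟨a, ha, fun hs => h1 ?_⟩, ⟨b, hb, fun k hk => h2 k ?_⟩⟩
  · refine isSolvable_of_rel M (fun c c' hc hc' => ?_) hx (hcj haM) hs
    exact isScal_comm (hM _ _ hc isScal_one) (hM _ _ hc' isScal_one)
  · have h3 : ((x, x') * (toA b * y * (toA b)⁻¹, toA b' * y' * (toA b')⁻¹)) ^ p ^ k ∈ M :=
      M.pow_mem (M.mul_mem hx (hcj hbM)) _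
    exact hM _ _ h3 hk

end transfer

/-- proportional semilinear maps -/
def SclM (F V : Type*) [Field F] [AddCommGroup V] [Module F V] : Submonoid (Equiv.Perm V × Equiv.Perm V) where
  carrier := {z | (∃ τ : F ≃+* F, Semi τ z.2) ∧ Scl F z.1 z.2}
  mul_mem' := by
    rintro ⟨a, b⟩ ⟨a', b'⟩ ⟨⟨τ, h1⟩, h2⟩ ⟨⟨τ', h1'⟩, h2'⟩
    exact ⟨⟨τ * τ', h1.mul h1'⟩, Scl.mul h1 h2 h2'⟩
  one_mem' := ⟨⟨1, Semi.one⟩, Scl.refl _⟩

/-- scalar multiples -/
theorem SP.of_scl [Finite V] {σ τ : F ≃+* F} {x' y' : Equiv.Perm V} (hx' : Semi σ x')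
    (hy' : Semi τ y') (hxx : Scl F x' x) (hyy : Scl F y' y) (h : SP F G p x' y') : SP F G p x y := by
  refine SP.of_rel (SclM F V) ?_ (fun g hg => ⟨g, hg, ⟨⟨1, semi_toA g⟩, Scl.refl _⟩⟩)
    ⟨⟨σ, hx'⟩, hxx.symm⟩ ⟨⟨τ, hy'⟩, hyy.symm⟩ h
  rintro z c ⟨-, h2⟩ hz
  exact h2.isScal_iff.1 hz

/-! ### translation to automorphisms -/

section trans

open Cfsg.Agent.H903.SylSemi (Ind scal scal_apply)
open Cfsg.Agent.H957.T5Tr (isScal_scal ind_scal exists_scal)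

variable {T : Type*} [Group T] {X : Type*} [Group X]

theorem not_orderOf_iff {H : Type*} [Group H] {p : ℕ} (hp : p.Prime) (x : H) :
    (¬ ∃ k : ℕ, orderOf x = p ^ k) ↔ ∀ k : ℕ, x ^ p ^ k ≠ 1 := by
  constructor
  · intro h k hk
    obtain ⟨i, -, hi⟩ := (Nat.dvd_prime_pow hp).1 (orderOf_dvd_of_pow_eq_one hk)
    exact h ⟨i, hi⟩
  · rintro h ⟨k, hk⟩
    exact h k (by rw [← hk, pow_orderOf_eq_one])

theorem srow_of [Finite V] [Finite T] [Nontrivial V] {p : ℕ} (hp : p.Prime) {π : X →* T}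
    (hπ : Function.Surjective π) {ρ : X →* Equiv.Perm V} (hρ : Function.Injective ρ)
    (hρlin : ∀ s : X, Semi (1 : F ≃+* F) (ρ s))
    {W : Equiv.Perm V → Prop} (hWmul : ∀ y y', W y → W y' → W (y * y')) (hWρ : ∀ s : X, W (ρ s))
    (hind : ∀ c : MulAut T, orderOf c = p → ∃ y, W y ∧ Ind π ρ y c)
    (huniq : ∀ y, W y → Ind π ρ y 1 → ∃ a : Fˣ, y = scal F V a)
    (hcore : ∀ y z, W y → W z → IsScal F (y ^ p) → ¬ IsScal F y → IsScal F (z ^ p) →
      ¬ IsScal F z →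
      (∃ s : X, ¬ Group.IsSolvable ↥(Subgroup.closure ({y, ρ s * z * (ρ s)⁻¹} : Set (Equiv.Perm V)))) ∧
      (∃ s : X, ∀ k : ℕ, ¬ IsScal F ((y * (ρ s * z * (ρ s)⁻¹)) ^ p ^ k))) : SRow p T := by
  have hW1 : W 1 := by simpa using hWρ 1
  have hWpow : ∀ y, W y → ∀ m : ℕ, W (y ^ m) := by
    intro y hy m
    induction m with
    | zero => simpa using hW1
    | succ m ih => rw [pow_succ]; exact hWmul _ _ ih hy
  have helt : ∀ c : MulAut T, orderOf c = p → ∀ y, W y → Ind π ρ y c →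
      IsScal F (y ^ p) ∧ ¬ IsScal F y := by
    intro c hc y hy hyc
    constructor
    · have h1 := hyc.pow p
      have h2 : c ^ p = 1 := by rw [← hc, pow_orderOf_eq_one]
      rw [h2] at h1
      obtain ⟨a, ha⟩ := huniq _ (hWpow y hy p) h1
      rw [ha]
      exact isScal_scal a
    · intro hs
      obtain ⟨a, rfl⟩ := exists_scal hs
      have h1 : c = 1 := Ind.unique hπ hρ hyc (ind_scal hρlin a)
      rw [h1, orderOf_one] at hc
      exact hp.one_lt.ne hc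
  intro c d hc hd
  obtain ⟨y, hy, hyc⟩ := hind c hc
  obtain ⟨z, hz, hzd⟩ := hind d hd
  obtain ⟨hyp, hyn⟩ := helt c hc y hy hyc
  obtain ⟨hzp, hzn⟩ := helt d hd z hz hzd
  obtain ⟨⟨s, h1⟩, ⟨t, h2⟩⟩ := hcore y z hy hz hyp hyn hzp hzn
  have e2 : ∀ s : X, (MulAut.conj (π s))⁻¹ = MulAut.conj (π s⁻¹) := fun s => by rw [map_inv π, map_inv]
  have e1 : ∀ s : X, (ρ s)⁻¹ = ρ s⁻¹ := fun s => (map_inv ρ s).symm
  have hcj : ∀ s : X, W (ρ s * z * (ρ s)⁻¹) ∧
      Ind π ρ (ρ s * z * (ρ s)⁻¹) (MulAut.conj (π s) * d * (MulAut.conj (π s))⁻¹) := by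
    intro s
    rw [e1, e2]
    exact ⟨hWmul _ _ (hWmul _ _ (hWρ s) hz) (hWρ s⁻¹), ((Ind.conj π ρ s).mul hzd).mul (Ind.conj π ρ s⁻¹)⟩
  let M : Submonoid (MulAut T × Equiv.Perm V) :=
    { carrier := {x | W x.2 ∧ Ind π ρ x.2 x.1}
      mul_mem' := fun {a b} ha hb => ⟨hWmul _ _ ha.1 hb.1, ha.2.mul hb.2⟩
      one_mem' := ⟨hW1, by
        have := Ind.conj π ρ 1
        rwa [map_one, map_one, map_one] at this⟩ }
  refine ⟨⟨MulAut.conj (π s), ⟨π s, rfl⟩, fun hs => h1 ?_⟩, ⟨MulAut.conj (π t), ⟨π t, rfl⟩, ?_⟩⟩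
  · have : Finite (MulAut T) := inferInstance
    refine isSolvable_of_rel M ?_ (a₁ := c) (a₂ := MulAut.conj (π s) * d * (MulAut.conj (π s))⁻¹) ⟨hy, hyc⟩
      (hcj s) hs
    rintro b b' ⟨hb, hb'⟩ ⟨hc, hc'⟩
    obtain ⟨a, ha⟩ := huniq _ hb hb'
    obtain ⟨a', ha'⟩ := huniq _ hc hc'
    exact isScal_comm (F := F) (by rw [show b = _ from ha]; exact isScal_scal a)
      (by rw [show b' = _ from ha']; exact isScal_scal a')
  · rw [not_orderOf_iff hp]
    intro k hk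
    apply h2 k
    have h3 : Ind π ρ ((y * (ρ t * z * (ρ t)⁻¹)) ^ p ^ k)
        ((c * (MulAut.conj (π t) * d * (MulAut.conj (π t))⁻¹)) ^ p ^ k) :=
      (hyc.mul (hcj t).2).pow _
    rw [hk] at h3
    obtain ⟨a, ha⟩ := huniq _ (hWpow _ (hWmul _ _ hy (hcj t).1) _) h3
    rw [ha]
    exact isScal_scal a

end trans

end Cfsg.Agent.H862.S5.SBase
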