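import Cfsg.Agent.H862.S5.SOrth
import Cfsg.Agent.H132.S5.CycChar

/-!
# Strong pairs of orthogonal groups: spaces of the dimension of one block (S2274; helper862)
-/

set_option autoImplicit false
set_option linter.unusedSectionVars false

namespace Cfsg.Agent.H862.S5.SBlock

open QuadraticMap Module Cfsg.Agent.LieClassical.OrthCore Cfsg.Agent.LieClassical.OrthTrans
  Cfsg.Agent.ClassicalGeometry.OrthSemi Cfsg.Agent.ClassicalGeometry.OrthAut1
open Cfsg.Agent.LieClassical.OrthSimple (good_isSimpleGroup)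
open Cfsg.Agent.H208.ConjSS (exists_normal isSS_scal_mul Psi_scal nontrivial_of_good)
open Cfsg.Agent.H862.T5.OBase Cfsg.Agent.H862.T5.OFrame Cfsg.Agent.H862.T5.OLinFour Cfsg.Agent.H862.T5.OBlock
  Cfsg.Agent.H862.T5.OFix Cfsg.Agent.H862.T5.OAA
open Cfsg.Agent.H957.T5V Cfsg.Agent.H957.T5M
open Cfsg.Agent.H208.Parity (ofO)
open Cfsg.Agent.H951
open Cfsg.Agent.H106.MT Cfsg.Agent.H106.MB
open Cfsg.Agent.H533.T5 Cfsg.Agent.H132.S5
open Cfsg.Agent.H862.S5.SBase (SP isSolvable_of_rel)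
open Cfsg.Agent.H862.S5.SOrth

universe u

section core

variable {F : Type u} {V : Type u} [Field F] [AddCommGroup V] [Module F V] {Q : QuadraticForm F V}

/-- **Two linear semisimilitudes.** -/
theorem spair_lin_lin {p : ℕ} (hAA : AAHyp.{u} p) (hRS : RSHyp.{u} p) [hp : Fact p.Prime] [Finite F]
    [FiniteDimensional F V] (hG : Good Q) (hp2 : p ≠ 2) (hcyc : ∀ S : Sylow p (P Q), IsCyclic ↥(S : Subgroup (P Q)))
    {X M : Gam Q} {μ c : F} (hX : IsSS Q (RingEquiv.refl F) μ X.1) (hXo : orderOf (Psi Q X) = p)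
    (hM : IsSS Q (RingEquiv.refl F) c M.1) (hMo : orderOf (Psi Q M) = p) :
    SPair p (MulAut.conj : P Q →* MulAut (P Q)).range (Psi Q X) (Psi Q M) := by
  have hfin : Finite V := Module.finite_of_finite F
  have hfinL : Finite (V ≃ₗ[F] V) := Finite.of_injective (fun f => (f : V → V)) DFunLike.coe_injective
  have hfinP : Finite (P Q) := Quotient.finite _
  have hodd := hp.out.odd_of_ne_two hp2
  have := good_isSimpleGroup hG
  have hcinj := conj_injective_P hG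
  obtain ⟨x0, hx0⟩ := H885.FC.Main.inner_of_lin hG hX hodd hXo
  obtain ⟨y0, hy0⟩ := H885.FC.Main.inner_of_lin hG hM hodd hMo
  rw [hx0, orderOf_injective _ hcinj] at hXo
  rw [hy0, orderOf_injective _ hcinj] at hMo
  let S : Sylow p (P Q) := default
  have h := spair_of_cyclic hAA hRS (H885.FC.Orth.not_comm_P hG) S (hcyc S) hXo hMo
  rw [hx0, hy0]
  have h2 := h.of_injective (MulAut.conj : P Q →* MulAut (P Q)) hcinj
  refine h2.mono ?_
  rintro _ ⟨r, -, rfl⟩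
  exact ⟨r, rfl⟩

/-- **A linear against a nonlinear semisimilitude.** -/
theorem spair_lin_nl {p : ℕ} (hAA : AAHyp.{u} p) (hRS : RSHyp.{u} p) [hp : Fact p.Prime] [Fintype F]
    [FiniteDimensional F V] (hG : Good Q) {m : ℕ} (hm : 3 ≤ m) (hd : finrank F V = 2 * m) (hp2 : p ≠ 2)
    (hcyc : ∀ S : Sylow p (P Q), IsCyclic ↥(S : Subgroup (P Q)))
    {X M : Gam Q} {σ : F ≃+* F} {μ c : F} (hX : IsSS Q (RingEquiv.refl F) μ X.1) (hXo : orderOf (Psi Q X) = p)
    (hM : IsSS Q σ c M.1) (hσ : σ ≠ 1) (hMo : orderOf (Psi Q M) = p) :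
    SPair p (MulAut.conj : P Q →* MulAut (P Q)).range (Psi Q X) (Psi Q M) := by
  have hfin : Finite V := Module.finite_of_finite F
  have hfinL : Finite (V ≃ₗ[F] V) := Finite.of_injective (fun f => (f : V → V)) DFunLike.coe_injective
  have hfinP : Finite (P Q) := Quotient.finite _
  have hfinA : Finite (MulAut (P Q)) := inferInstance
  have hodd := hp.out.odd_of_ne_two hp2
  have := good_isSimpleGroup hG
  have hcinj := conj_injective_P hG
  obtain ⟨x0, hx0⟩ := H885.FC.Main.inner_of_lin hG hX hodd hXo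
  have hx0o : orderOf x0 = p := by
    rw [hx0, orderOf_injective _ hcinj] at hXo
    exact hXo
  have hdvd : p ∣ Nat.card (P Q) := by rw [← hx0o]; exact orderOf_dvd_natCard _
  have hMp : Psi Q M ^ p = 1 := by rw [← hMo, pow_orderOf_eq_one]
  obtain ⟨N, hN1, hN2, hN3, hN4, hN5, hN6⟩ := fn_gam hG hm hd hM hσ hp.out hp2 hMp hdvd
  obtain ⟨⟨c0, hc0N⟩, hc0⟩ := exists_prime_orderOf_dvd_card' (G := N) p hN3
  rw [Subgroup.orderOf_mk] at hc0
  let S : Sylow p (P Q) := default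
  obtain ⟨s, j, hsj⟩ := exists_conj_of_cyclic S (hcyc S) hx0o hc0
  set n : P Q := c0 ^ j with hn
  have hnN : n ∈ N := Subgroup.zpow_mem _ hc0N j
  have hsn : x0 = s * n * s⁻¹ := by rw [← hsj, hn, conj_zpow]
  have hnx : s⁻¹ * x0 * s⁻¹⁻¹ = n := by rw [hsn]; group
  have hdn : Psi Q M n = n := hN4 n hnN
  have hno : orderOf n = p := by rw [← hnx, orderOf_cj, hx0o]
  set c1 : MulAut (P Q) := MulAut.conj s⁻¹ * Psi Q X * (MulAut.conj s⁻¹)⁻¹ with hc1
  have hc1n : c1 = MulAut.conj n := by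
    rw [hc1, hx0, ← map_inv, ← map_mul, ← map_mul, hnx]
  have hc1o : orderOf c1 = p := by rw [hc1n, orderOf_injective _ hcinj, hno]
  have hcd : Commute c1 (Psi Q M) := by
    rw [hc1n]
    exact commute_conj_of_fix hdn
  refine SPair.conj_left (s := MulAut.conj s⁻¹) ⟨_, rfl⟩ ?_
  rw [← hc1]
  set h : MulAut (P Q) := c1⁻¹ * Psi Q M with hh
  -- `h` comes from a nonlinear semisimilitude
  obtain ⟨⟨w, hw⟩, hwn⟩ := QuotientGroup.mk_surjective n
  have hc1w : c1 = Psi Q (ofO w (E_le_O hw)) := by rw [Psi_E hw, hc1n, ← hwn]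
  have hhM : h = Psi Q ((ofO w (E_le_O hw))⁻¹ * M) := by rw [map_mul, map_inv, ← hc1w]
  obtain ⟨c', hM'⟩ : ∃ c', IsSS Q σ c' ((ofO w (E_le_O hw))⁻¹ * M).1 :=
    ⟨_, (isSS_ofO ((O Q).inv_mem (E_le_O hw))).mul hM⟩
  have hhp : h ^ p = 1 := by
    rw [hh, hcd.inv_left.mul_pow, hMp, mul_one, inv_pow, hc1n, ← map_pow, ← hno, pow_orderOf_eq_one, map_one, inv_one]
  have hh1 : h ≠ 1 := by
    intro h1
    have h2 : (MulAut.conj (1 : P Q)) = h := by rw [h1, map_one]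
    rw [hhM] at h2
    exact not_inner_of_nl hG hM' hσ 1 h2.symm
  obtain ⟨N', hN'1, hN'2, hN'3, hN'4, hN'5, hN'6⟩ := fn_gam hG hm hd hM' hσ hp.out hp2 (by rw [← hhM]; exact hhp) hdvd
  rw [← hhM] at hN'4 hN'5
  -- the simple group of inner automorphisms
  let R : Subgroup (MulAut (P Q)) := N'.map (MulAut.conj : P Q →* MulAut (P Q))
  have eR : N' ≃* R := N'.equivMapOfInjective _ hcinj
  have hRs : IsSimpleGroup R := by
    have : Nontrivial R := eR.symm.toEquiv.nontrivial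
    exact IsSimpleGroup.isSimpleGroup_of_surjective eR.toMonoidHom eR.surjective
  have hRc : ¬ IsMulCommutative R := by
    intro h9
    apply hN'2
    refine ⟨⟨fun a b => eR.injective ?_⟩⟩
    rw [map_mul, map_mul]
    exact h9.is_comm.comm _ _
  have hhn : h n = n := by
    apply fix_of_commute hG
    rw [← hc1n, hh]
    exact (Commute.refl c1).inv_right.mul_right hcd
  have hhn' : h n⁻¹ = n⁻¹ := by rw [map_inv, hhn]
  have hcR : ∀ r ∈ R, c1 * r * c1⁻¹ ∈ R := by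
    rintro _ ⟨r, hr, rfl⟩
    refine ⟨n * r * n⁻¹, hN'5 n hhn r hr, ?_⟩
    rw [hc1n, map_mul, map_mul, map_inv]
  refine spair_of_aligned hAA hRS hp.out (R := R) (c := c1) (s := 1) (h := h) ?_ hc1o hcR
    (Subgroup.one_mem _) ?_ ?_ ⟨1, by rw [pow_one]; exact hhp⟩ (by rw [hh]; group) ?_
  · rintro _ ⟨r, -, rfl⟩
    exact ⟨r, rfl⟩
  · exact (Commute.refl c1).inv_right.mul_right hcd
  · rintro _ ⟨r, hr, rfl⟩
    exact commute_conj_of_fix (hN'4 r hr)
  · refine not_solvable_of_quasisimple (R := R) (quasisimple_of_simple hRs hRc) (c := c1) hcR ?_ ?_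
    · rintro _ ⟨r, hr, rfl⟩
      refine ⟨n⁻¹ * r * n⁻¹⁻¹, hN'5 n⁻¹ hhn' r hr, ?_⟩
      rw [hc1n, map_mul, map_mul, map_inv, inv_inv]
    · by_contra hcon
      push Not at hcon
      have h1 : n = 1 := by
        apply hN'6
        intro r hr
        have h2 := hcon _ ⟨r, hr, rfl⟩
        rw [hc1n] at h2
        apply hcinj
        rw [map_mul, map_mul]
        exact h2.symm.eq
      rw [h1, orderOf_one] at hno
      exact hp.out.one_lt.ne hno

/-- the relation of `Psi` -/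
def PsiM (Q : QuadraticForm F V) : Submonoid (Equiv.Perm V × MulAut (P Q)) where
  carrier := {z | ∃ Z : Gam Q, Z.1 = z.1 ∧ Psi Q Z = z.2}
  mul_mem' := by
    rintro ⟨a, b⟩ ⟨a', b'⟩ ⟨Z, h1, h2⟩ ⟨Z', h1', h2'⟩
    exact ⟨Z * Z', by rw [Subgroup.coe_mul, h1, h1']; rfl, by rw [map_mul, h2, h2']; rfl⟩
  one_mem' := ⟨1, rfl, map_one _⟩

theorem psi_eq_one_of_isScal (hG : Good Q) {Z : Gam Q} (h : IsScal F Z.1) : Psi Q Z = 1 := by
  have h1 := Cfsg.Agent.H862.T5.OMain.psi_pow_eq_one (p := 1) hG (X := Z) (by rwa [pow_one])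
  rwa [pow_one] at h1

/-- translation -/
theorem sp_of_spair [Finite F] [FiniteDimensional F V] {p : ℕ} (hp : p.Prime) (hG : Good Q) {X Y : Gam Q}
    (h : SPair p (MulAut.conj : P Q →* MulAut (P Q)).range (Psi Q X) (Psi Q Y)) : SP F (E Q) p X.1 Y.1 := by
  have hfin : Finite V := Module.finite_of_finite F
  have hfinL : Finite (V ≃ₗ[F] V) := Finite.of_injective (fun f => (f : V → V)) DFunLike.coe_injective
  have hfinP : Finite (P Q) := Quotient.finite _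
  have hfinA : Finite (MulAut (P Q)) := inferInstance
  obtain ⟨⟨_, ⟨s, rfl⟩, h1⟩, ⟨_, ⟨t, rfl⟩, h2⟩⟩ := h
  obtain ⟨⟨w, hw⟩, rfl⟩ := QuotientGroup.mk_surjective s
  obtain ⟨⟨v, hv⟩, rfl⟩ := QuotientGroup.mk_surjective t
  have hcj : ∀ {w : V ≃ₗ[F] V} (hw : w ∈ E Q), (toA w * Y.1 * (toA w)⁻¹,
      MulAut.conj (QuotientGroup.mk (⟨w, hw⟩ : E Q) : P Q) * Psi Q Y *
        (MulAut.conj (QuotientGroup.mk (⟨w, hw⟩ : E Q) : P Q))⁻¹) ∈ PsiM Q := by
    intro w hw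
    refine ⟨ofO w (E_le_O hw) * Y * (ofO w (E_le_O hw))⁻¹, rfl, ?_⟩
    rw [map_mul, map_mul, map_inv, Psi_E hw]
  refine ⟨⟨w, hw, fun hs => h1 ?_⟩, ⟨v, hv, fun k hk => ?_⟩⟩
  · refine isSolvable_of_rel (PsiM Q) ?_ (a₁ := X.1) ⟨X, rfl, rfl⟩ (hcj hw) hs
    rintro b b' ⟨Z, hZ, rfl⟩ ⟨Z', hZ', rfl⟩
    rw [psi_eq_one_of_isScal hG (Z := Z) ⟨1, fun v => by rw [hZ, one_smul]; rfl⟩,
      psi_eq_one_of_isScal hG (Z := Z') ⟨1, fun v => by rw [hZ', one_smul]; rfl⟩]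
  · rw [SBase.not_orderOf_iff hp] at h2
    apply h2 k
    obtain ⟨Z, hZ, hZ'⟩ : ((X.1, Psi Q X) * (toA v * Y.1 * (toA v)⁻¹,
      MulAut.conj (QuotientGroup.mk (⟨v, hv⟩ : E Q) : P Q) * Psi Q Y *
        (MulAut.conj (QuotientGroup.mk (⟨v, hv⟩ : E Q) : P Q))⁻¹)) ^ p ^ k ∈ PsiM Q :=
      (PsiM Q).pow_mem ((PsiM Q).mul_mem ⟨X, rfl, rfl⟩ (hcj hv)) _
    have h3 : Psi Q Z = 1 := psi_eq_one_of_isScal hG (by rw [hZ]; exact hk)
    rw [h3] at hZ'
    exact hZ'.symm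

/-- the pair predicate in a space of the dimension of a block -/
theorem sp_block {p : ℕ} (hAA : AAHyp.{u} p) (hRS : RSHyp.{u} p) [hp : Fact p.Prime] [Fintype F]
    [FiniteDimensional F V] (hG : Good Q) {m : ℕ} (hm : 3 ≤ m) (hd : finrank F V = 2 * m) (hp2 : p ≠ 2)
    (hpF : (p : F) ≠ 0)
    (hc : 2 * m = if Even (orderOf (Fintype.card F : ZMod p)) then orderOf (Fintype.card F : ZMod p) else
      2 * orderOf (Fintype.card F : ZMod p)) {X Y : Gam Q} {μ : F} (hX : IsSS Q (RingEquiv.refl F) μ X.1)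
    (hXp : Psi Q X ^ p = 1) (hX1 : Psi Q X ≠ 1) (hYp : Psi Q Y ^ p = 1) (hY1 : Psi Q Y ≠ 1) :
    SP F (E Q) p X.1 Y.1 := by
  apply sp_of_spair hp.out hG
  have hcyc := cyclic_sylow hG hp2 hpF hc hd
  obtain ⟨σ, c, hY⟩ := Y.2
  have hXo := orderOf_eq_prime hXp hX1
  have hYo := orderOf_eq_prime hYp hY1
  by_cases hσ : σ = 1
  · subst hσ
    exact spair_lin_lin hAA hRS hG hp2 hcyc hX hXo hY hYo
  · exact spair_lin_nl hAA hRS hG hm hd hp2 hcyc hX hXo hY hσ hYo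

end core

end Cfsg.Agent.H862.S5.SBlock
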