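import Cfsg.Agent.H862.S5.SBlock

/-!
# The strong pair predicate for orthogonal groups in cross characteristic (S2274; helper862)
-/

set_option autoImplicit false
set_option linter.unusedSectionVars false

namespace Cfsg.Agent.H862.S5.SMain

open QuadraticMap Module Cfsg.Agent.LieClassical.OrthCore Cfsg.Agent.LieClassical.OrthTrans
  Cfsg.Agent.ClassicalGeometry.OrthSemi Cfsg.Agent.ClassicalGeometry.OrthAut1
open Cfsg.Agent.LieClassical.QuadForms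
open Cfsg.Agent.LieClassical.OrthSimple (good_isSimpleGroup)
open Cfsg.Agent.H208.ConjSS (exists_normal isSS_scal_mul Psi_scal nontrivial_of_good)
open Cfsg.Agent.H862.T5.OBase Cfsg.Agent.H862.T5.OFrame Cfsg.Agent.H862.T5.OLinFour Cfsg.Agent.H862.T5.OBlock
  Cfsg.Agent.H862.T5.OFix Cfsg.Agent.H862.T5.OAA Cfsg.Agent.H862.T5.OMain
open Cfsg.Agent.H957.T5V Cfsg.Agent.H957.T5M
open Cfsg.Agent.H208.Parity (ofO)
open Cfsg.Agent.H951
open Cfsg.Agent.H106.MT Cfsg.Agent.H106.MB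
open Cfsg.Agent.H966.Frob Cfsg.Agent.H208.Ext Cfsg.Agent.H208.Frame
open Cfsg.Agent.H132.S5 (RSHyp)
open Cfsg.Agent.H862.S5.SBase (SP)
open Cfsg.Agent.H862.S5.SOrth Cfsg.Agent.H862.S5.SBlock

universe u

section pairs

variable {F V : Type u} [Field F] [Fintype F] [AddCommGroup V] [Module F V] [FiniteDimensional F V]
  {Q : QuadraticForm F V} {κ : Type} [Fintype κ] [DecidableEq κ]

theorem sp_lin_lin {p : ℕ} (hAA : AAHyp.{u} p) (hRS : RSHyp.{u} p) [hp : Fact p.Prime] (hG : Good Q) (hp2 : p ≠ 2)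
    (hpF : (p : F) ≠ 0) {m : ℕ} (hm : 3 ≤ m) (hκ : Fintype.card κ = 2 * m)
    (hc : 2 * m = if Even (orderOf (Fintype.card F : ZMod p)) then orderOf (Fintype.card F : ZMod p) else
      2 * orderOf (Fintype.card F : ZMod p)) {P' : QuadraticForm F (κ → F)} (hP : Good P')
    {g₁ g₂ : V ≃ₗ[F] V} (h₁ : g₁ ∈ O Q) (h₂ : g₂ ∈ O Q) (hg₁ : g₁ ^ p = 1) (hg₂ : g₂ ^ p = 1)
    {j₁ j₂ : (κ → F) →ₗ[F] V} (e₁ : Emb Q P' j₁) (e₂ : Emb Q P' j₂)
    (i₁ : Inv (en g₁) (LinearMap.range j₁)) (i₂ : Inv (en g₂) (LinearMap.range j₂))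
    (c₁ : LinearMap.range j₁ ≤ cm (en g₁)) (c₂ : LinearMap.range j₂ ≤ cm (en g₂)) :
    SP F (E Q) p (toA g₁) (toA g₂) := by
  have hfr : finrank F (κ → F) = 2 * m := by rw [Module.finrank_fintype_fun_eq_card, hκ]
  have := nontrivial_of_good hP
  obtain ⟨g₁', hg₁', hj₁, hp₁, hn₁⟩ := exists_cov_lin e₁ hP.nondeg h₁ i₁ c₁ hpF hg₁
  obtain ⟨g₂', hg₂', hj₂, hp₂, hn₂⟩ := exists_cov_lin e₂ hP.nondeg h₂ i₂ c₂ hpF hg₂
  have hodd := hp.out.odd_of_ne_two hp2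
  refine sp_pair hG hP.nondeg (by rw [hfr]; omega) e₁ e₂ (cov_toA hj₁) (cov_toA hj₂) fun g hg => ?_
  have hk : g * g₂' * g⁻¹ ∈ O P' := (O P').mul_mem ((O P').mul_mem hg hg₂') ((O P').inv_mem hg)
  have hkp : (g * g₂' * g⁻¹) ^ p = 1 := by rw [conj_pow, hp₂, mul_one, mul_inv_cancel]
  have hk1 : g * g₂' * g⁻¹ ≠ 1 := by
    intro h
    apply hn₂
    have h2 : g * g₂' = g := mul_inv_eq_one.1 h
    exact mul_eq_left.1 h2
  have hp' : ∀ {f : (κ → F) ≃ₗ[F] (κ → F)} (hf : f ∈ O P'), f ^ p = 1 → Psi P' (ofO f hf) ^ p = 1 := by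
    intro f hf hfp
    apply psi_pow_eq_one hP
    have h1 : (ofO f hf).1 = toA f := rfl
    rw [h1]
    exact isScal_of_pow_one (toA_pow_one hfp)
  exact sp_block hAA hRS hP hm hfr hp2 hpF hc (X := ofO g₁' hg₁') (Y := ofO _ hk) (isSS_ofO _) (hp' _ hp₁)
    (fun h => hn₁ (eq_one_of_Psi hP hodd hg₁' hp₁ h)) (hp' _ hkp) (fun h => hk1 (eq_one_of_Psi hP hodd hk hkp h))

theorem sp_lin_nl {p : ℕ} (hAA : AAHyp.{u} p) (hRS : RSHyp.{u} p) [hp : Fact p.Prime] (hG : Good Q) (hp2 : p ≠ 2)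
    (hpF : (p : F) ≠ 0) {m : ℕ} (hm : 3 ≤ m) (hκ : Fintype.card κ = 2 * m)
    (hc : 2 * m = if Even (orderOf (Fintype.card F : ZMod p)) then orderOf (Fintype.card F : ZMod p) else
      2 * orderOf (Fintype.card F : ZMod p)) {P' : QuadraticForm F (κ → F)} (hP : Good P')
    {g₁ : V ≃ₗ[F] V} (h₁ : g₁ ∈ O Q) (hg₁ : g₁ ^ p = 1)
    {j₁ : (κ → F) →ₗ[F] V} (e₁ : Emb Q P' j₁)
    (i₁ : Inv (en g₁) (LinearMap.range j₁)) (c₁ : LinearMap.range j₁ ≤ cm (en g₁))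
    {σ : F ≃+* F} (hσ1 : σ ≠ 1) (hσP : ∀ v, P' (frob κ σ v) = σ (P' v))
    {M : Equiv.Perm V} (hMp : M ^ p = 1)
    {j₂ : (κ → F) →ₗ[F] V} {e : F} (he : e ≠ 0) (hj₂ : ∀ x, Q (j₂ x) = e * P' x)
    (hM : ∀ x, M (j₂ x) = j₂ (frob κ σ x))
    {ψ : (κ → F) ≃ₗ[F] (κ → F)} (hψ : ∀ x, P' (ψ x) = e * P' x) :
    SP F (E Q) p (toA g₁) M := by
  have hfr : finrank F (κ → F) = 2 * m := by rw [Module.finrank_fintype_fun_eq_card, hκ]
  have hnd : Nondeg (e • P') := nondeg_smul hP.nondeg he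
  have hGq : Good (e • P') := Cfsg.Agent.LieClassical.OrthFinite.good_of_finite hnd (by rw [hfr]; omega)
  have := nontrivial_of_good hGq
  have e₁' : Emb Q (e • P') (j₁ ∘ₗ ψ.toLinearMap) := ⟨fun u => by
    rw [LinearMap.comp_apply, e₁.form]
    exact hψ u⟩
  have hr : LinearMap.range (j₁ ∘ₗ ψ.toLinearMap) = LinearMap.range j₁ := by
    rw [LinearMap.range_comp, LinearEquiv.range, Submodule.map_top]
  have e₂' : Emb Q (e • P') j₂ := ⟨fun u => hj₂ u⟩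
  obtain ⟨g₁', hg₁', hj₁, hp₁, hn₁⟩ := exists_cov_lin e₁' hnd h₁ (by rw [hr]; exact i₁) (by rw [hr]; exact c₁) hpF hg₁
  have hodd := hp.out.odd_of_ne_two hp2
  refine sp_pair hG hnd (by rw [hfr]; omega) e₁' e₂' (cov_toA hj₁) (y' := frob κ σ) hM fun g hg => ?_
  have hfrob : IsSS (e • P') σ (e * (σ e)⁻¹) (frob κ σ) := by
    refine ⟨mul_ne_zero he (inv_ne_zero (by simpa using he)), fun u v => ?_, fun a v => ?_, fun v => ?_⟩
    · funext i
      exact map_add σ _ _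
    · funext i
      exact map_mul σ _ _
    · have hσe : σ e ≠ 0 := by simpa using he
      show e * P' (frob κ σ v) = e * (σ e)⁻¹ * σ (e * P' v)
      rw [hσP, map_mul]
      field_simp
  have hfp : (frob κ σ) ^ p = 1 := by
    ext1 u
    apply e₂'.injective hnd
    have h1 := Cov.pow (x := M) (x' := frob κ σ) (j := j₂) hM p u
    rw [hMp] at h1
    exact h1.symm
  let Y₀ : Gam (e • P') := ⟨frob κ σ, σ, _, hfrob⟩
  let Y : Gam (e • P') := ofO g hg * Y₀ * (ofO g hg)⁻¹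
  have hY1 : Y.1 = toA g * frob κ σ * (toA g)⁻¹ := rfl
  have hYp : Psi _ Y ^ p = 1 := by
    apply psi_pow_eq_one hGq
    rw [hY1, conj_pow, hfp, mul_one, mul_inv_cancel]
    exact ⟨1, fun v => by rw [one_smul]; rfl⟩
  have hYn : Psi _ Y ≠ 1 := by
    intro h
    have h2 : Psi _ Y₀ = 1 := by
      have h3 : Psi _ Y = Psi _ (ofO g hg) * Psi _ Y₀ * (Psi _ (ofO g hg))⁻¹ := by
        rw [← map_inv, ← map_mul, ← map_mul]
      rw [h3, mul_inv_eq_one] at h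
      exact mul_eq_left.1 h
    refine psi_ne_one hGq (X := Y₀) ?_ h2
    exact Cfsg.Agent.H862.T5.ONonlin.not_isScal_of_semi hσ1 ⟨hfrob.add, hfrob.smul⟩
  have hX : Psi _ (ofO g₁' hg₁') ^ p = 1 := by
    apply psi_pow_eq_one hGq
    have h1 : (ofO g₁' hg₁').1 = toA g₁' := rfl
    rw [h1]
    exact isScal_of_pow_one (toA_pow_one hp₁)
  exact sp_block hAA hRS hGq hm hfr hp2 hpF hc (X := ofO g₁' hg₁') (Y := Y) (isSS_ofO _) hX
    (fun h => hn₁ (eq_one_of_Psi hGq hodd hg₁' hp₁ h)) hYp hYn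

end pairs

section main

variable {F V : Type u} [Field F] [Fintype F] [AddCommGroup V] [Module F V] [FiniteDimensional F V]
  {Q : QuadraticForm F V}

theorem sp_ll {p : ℕ} (hAA : AAHyp.{u} p) (hRS : RSHyp.{u} p)
    (hT2 : ∀ (K : Type u) [Field K] [Finite K], (p : K) ≠ 0 → TwoS p K) [hp : Fact p.Prime] (hG : Good Q) (h7 : 7 ≤ finrank F V)
    (hp5 : 5 ≤ p) (hpF : (p : F) ≠ 0) {g₁ g₂ : V ≃ₗ[F] V} (h₁ : NLin Q p g₁) (h₂ : NLin Q p g₂) :
    SP F (E Q) p (toA g₁) (toA g₂) := by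
  obtain ⟨e, he⟩ : ∃ e, e = orderOf (Fintype.card F : ZMod p) := ⟨_, rfl⟩
  have he0 : 0 < e := by rw [he]; exact ord_pos hpF
  by_cases h12 : e = 1 ∨ e = 2
  · rw [he] at h12
    exact sp_of_fr4 (hT2 F hpF) hG h7 (h₁.fr4 hG (by omega) hpF h12) (h₂.fr4 hG (by omega) hpF h12) h₁.isScal h₂.isScal
  by_cases h4 : e = 4
  · rw [he] at h4
    obtain ⟨a, b, hab⟩ := exists_aniso F
    have := Cfsg.Agent.H862.T5.OMinusFour.fact_of_aniso hab
    exact sp_of_frE (a := a) (b := b) (hT2 _ (Cfsg.Agent.H862.T5.OMinusFour.cast_ne hpF)) hG h7 (frE_lin hG hp5 hpF h4 h₁)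
      (frE_lin hG hp5 hpF h4 h₂) h₁.isScal h₂.isScal
  rcases Nat.even_or_odd e with hev | hodd
  · obtain ⟨m, hm⟩ := hev
    obtain ⟨a, b, hab⟩ := exists_aniso F
    obtain ⟨j₁, e₁, i₁, c₁⟩ := exists_minus_block hG.nondeg h₁.1 (by omega) hpF h₁.2.1 h₁.2.2 (m := m)
      (by omega) (a := a) (b := b) hab
    obtain ⟨j₂, e₂, i₂, c₂⟩ := exists_minus_block hG.nondeg h₂.1 (by omega) hpF h₂.2.1 h₂.2.2 (m := m)
      (by omega) (a := a) (b := b) hab
    rw [AutOrth.Main.minusForm_eq] at e₁ e₂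
    refine sp_lin_lin hAA hRS hG (by omega) hpF (m := m) (by omega) ?_ ?_ (AutOrth.Main.good_minus (by omega) hab)
      h₁.1 h₂.1 h₁.2.1 h₂.2.1 e₁ e₂ i₁ i₂ c₁ c₂
    · simp only [Fintype.card_sum, Fintype.card_fin]
      omega
    · rw [← he, if_pos ⟨m, hm⟩]
      omega
  · obtain ⟨j₁, e₁, i₁, c₁⟩ := exists_plus_block hG.nondeg h₁.1 (by omega) hpF h₁.2.1 h₁.2.2 he.symm hodd
    obtain ⟨j₂, e₂, i₂, c₂⟩ := exists_plus_block hG.nondeg h₂.1 (by omega) hpF h₂.2.1 h₂.2.2 he.symm hodd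
    rw [AutOrth.Main.plusForm_eq] at e₁ e₂
    have he3 : 3 ≤ e := by
      obtain ⟨k, hk⟩ := hodd
      omega
    refine sp_lin_lin hAA hRS hG (by omega) hpF (m := e) he3 ?_ ?_ (AutOrth.Main.good_plus he3)
      h₁.1 h₂.1 h₁.2.1 h₂.2.1 e₁ e₂ i₁ i₂ c₁ c₂
    · simp only [Fintype.card_sum, Fintype.card_fin]
      omega
    · rw [← he, if_neg (Nat.not_even_iff_odd.2 hodd)]

theorem sp_ln {p : ℕ} (hAA : AAHyp.{u} p) (hRS : RSHyp.{u} p)
    (hT2 : ∀ (K : Type u) [Field K] [Finite K], (p : K) ≠ 0 → TwoS p K) [hp : Fact p.Prime] (hG : Good Q) (h7 : 7 ≤ finrank F V)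
    (hp5 : 5 ≤ p) (hpF : (p : F) ≠ 0) {g₁ : V ≃ₗ[F] V} (h₁ : NLin Q p g₁) {σ : F ≃+* F} {M : Equiv.Perm V}
    (hM : NNl Q p σ M) : SP F (E Q) p (toA g₁) M := by
  have hpodd := hp.out.odd_of_ne_two (by omega : p ≠ 2)
  obtain ⟨e, he⟩ : ∃ e, e = orderOf (Fintype.card F : ZMod p) := ⟨_, rfl⟩
  have he0 : 0 < e := by rw [he]; exact ord_pos hpF
  by_cases h12 : e = 1 ∨ e = 2
  · rw [he] at h12
    exact sp_of_fr4 (hT2 F hpF) hG h7 (h₁.fr4 hG (by omega) hpF h12) (hM.fr4 hp.out hG) h₁.isScal hM.isScal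
  obtain ⟨⟨c, hc⟩, hσ1, hσp, hMp⟩ := id hM
  have := nontrivial_of_good hG
  have := Fintype.ofFinite (fix σ)
  obtain ⟨a, b, hab⟩ := exists_aniso (fix σ)
  have habF : ∀ z₁ z₂ : F, z₁ ^ 2 + (a : F) * z₁ * z₂ + (b : F) * z₂ ^ 2 = 0 → z₁ = 0 ∧ z₂ = 0 :=
    aniso_fix hσp hpodd hab
  by_cases h4 : e = 4
  · rw [he] at h4
    have := Cfsg.Agent.H862.T5.OMinusFour.fact_of_aniso habF
    exact sp_of_frE (a := (a : F)) (b := (b : F)) (hT2 _ (Cfsg.Agent.H862.T5.OMinusFour.cast_ne hpF)) hG h7 (frE_lin hG hp5 hpF h4 h₁)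
      (Cfsg.Agent.H862.T5.OMinusFour.frE_nl hG a.2 b.2 hc hσ1 hσp hp.out.pos hMp) h₁.isScal hM.isScal
  -- the whole space is one block
  have hwhole : ∀ m : ℕ, 3 ≤ m → (2 * m = if Even (orderOf (Fintype.card F : ZMod p)) then
      orderOf (Fintype.card F : ZMod p) else 2 * orderOf (Fintype.card F : ZMod p)) → finrank F V = 2 * m →
      SP F (E Q) p (toA g₁) M := by
    intro m hm hcm hd
    refine sp_block hAA hRS hG hm hd (by omega) hpF hcm (X := ofO g₁ h₁.1) (Y := ⟨M, σ, c, hc⟩) (isSS_ofO _)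
      (psi_pow_eq_one hG h₁.isScal) (fun h => h₁.2.2 (eq_one_of_Psi hG hpodd h₁.1 h₁.2.1 h))
      (psi_pow_eq_one hG hM.isScal) (psi_ne_one hG ?_)
    exact Cfsg.Agent.H862.T5.ONonlin.not_isScal_of_semi hσ1 ⟨hc.add, hc.smul⟩
  rcases Nat.even_or_odd e with hev | hodd
  · obtain ⟨m, hm⟩ := hev
    obtain ⟨j₁, e₁, i₁, c₁⟩ := exists_minus_block hG.nondeg h₁.1 (by omega) hpF h₁.2.1 h₁.2.2 (m := m)
      (by omega) (a := (a : F)) (b := (b : F)) habF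
    rw [AutOrth.Main.minusForm_eq] at e₁
    have hGm : Good (minusForm (m - 1) F (a : F) b) := AutOrth.Main.good_minus (by omega) habF
    have hκ : Fintype.card ((Fin (m - 1) ⊕ Fin (m - 1)) ⊕ Fin 2) = 2 * m := by
      simp only [Fintype.card_sum, Fintype.card_fin]
      omega
    have hcm : 2 * m = if Even (orderOf (Fintype.card F : ZMod p)) then orderOf (Fintype.card F : ZMod p) else
        2 * orderOf (Fintype.card F : ZMod p) := by
      rw [← he, if_pos ⟨m, hm⟩]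
      omega
    have hle : 2 * m ≤ finrank F V := by
      rw [← hκ, ← Module.finrank_fintype_fun_eq_card F]
      exact LinearMap.finrank_le_finrank_of_injective (e₁.injective hGm.nondeg)
    rcases hle.eq_or_lt with hEq | hlt
    · exact hwhole m (by omega) hcm hEq.symm
    obtain ⟨j₂, s, hs, hj₂, hMj⟩ := Cfsg.Agent.H862.T5.ONonlin.exists_frame_nl hG.nondeg hc hσp hp.out.pos hMp hκ hlt
      (P₀ := minusForm (m - 1) (fix σ) a b) (by
        rw [← AutOrth.Main.minusForm_eq]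
        exact Cfsg.Agent.LieClassical.OrthForms.nondeg_minusForm _ (fix σ) _ _ hab)
      (P := minusForm (m - 1) F a b) (fun x => by rw [coe_minusForm, coe_minusForm, coe_minus])
    obtain ⟨ψ, hψ⟩ := H193.QuadEmb.minus_iso (F := F) (m - 1) habF habF hs
    exact sp_lin_nl hAA hRS hG (by omega) hpF (m := m) (by omega) hκ hcm hGm h₁.1 h₁.2.1 e₁ i₁ c₁ hσ1
      (minusForm_frob _ a.2 b.2) hMp hs hj₂ hMj (ψ := ψ) (fun x => by rw [coe_minusForm]; exact hψ x)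
  · obtain ⟨j₁, e₁, i₁, c₁⟩ := exists_plus_block hG.nondeg h₁.1 (by omega) hpF h₁.2.1 h₁.2.2 he.symm hodd
    rw [AutOrth.Main.plusForm_eq] at e₁
    have he3 : 3 ≤ e := by
      obtain ⟨k, hk⟩ := hodd
      omega
    have hGm : Good (plusForm e F) := AutOrth.Main.good_plus he3
    have hκ : Fintype.card (Fin e ⊕ Fin e) = 2 * e := by
      simp only [Fintype.card_sum, Fintype.card_fin]
      omega
    have hcm : 2 * e = if Even (orderOf (Fintype.card F : ZMod p)) then orderOf (Fintype.card F : ZMod p) else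
        2 * orderOf (Fintype.card F : ZMod p) := by
      rw [← he, if_neg (Nat.not_even_iff_odd.2 hodd)]
    have hle : 2 * e ≤ finrank F V := by
      rw [← hκ, ← Module.finrank_fintype_fun_eq_card F]
      exact LinearMap.finrank_le_finrank_of_injective (e₁.injective hGm.nondeg)
    rcases hle.eq_or_lt with hEq | hlt
    · exact hwhole e he3 hcm hEq.symm
    obtain ⟨j₂, s, hs, hj₂, hMj⟩ := Cfsg.Agent.H862.T5.ONonlin.exists_frame_nl hG.nondeg hc hσp hp.out.pos hMp hκ hlt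
      (P₀ := plusForm e (fix σ)) (polar_plusForm_nondeg e)
      (P := plusForm e F) (fun x => by rw [coe_plusForm, coe_plusForm, coe_plus])
    obtain ⟨ψ, hψ⟩ := H193.QuadEmb.plus_iso (F := F) e hs
    exact sp_lin_nl hAA hRS hG (by omega) hpF (m := e) he3 hκ hcm hGm h₁.1 h₁.2.1 e₁ i₁ c₁ hσ1
      (plusForm_frob _) hMp hs hj₂ hMj (ψ := ψ) (fun x => by rw [coe_plusForm]; exact hψ x)

end main

end Cfsg.Agent.H862.S5.SMain
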