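import Cfsg.Agent.H862.T5.ORow
import Cfsg.Agent.H862.S5.SBase
import Cfsg.Agent.H132.S5.Main

/-!
# Strong pairs on quadratic spaces (S2274; helper862)

* `TwoS p F` : the strong pair theorem for `ΓL₂(F)`;
* `srow_of_sp` : translation to `SRow p (POmega F Q)`;
* `sp_lift`, `sp_pair` : frames; `sp_of_fr4`, `sp_of_frE` : four-dimensional frames.
-/

set_option autoImplicit false
set_option linter.unusedSectionVars false

namespace Cfsg.Agent.H862.S5.SOrth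

open QuadraticMap Module Cfsg.Agent.LieClassical.OrthCore Cfsg.Agent.LieClassical.OrthTrans
open Cfsg.Agent.ClassicalGeometry.OrthSemi
open Cfsg.Agent.H862.T5.OBase Cfsg.Agent.H862.T5.OFrame
open Cfsg.Agent.H862.T5.OPlusFour (M2 detQ TR lm tr_lm lift_lm nondeg_detQ Fr4 finrank_M2)
open Cfsg.Agent.H957.T5V Cfsg.Agent.H533.T5
open Cfsg.Agent.H862.S5.SBase (SP inv_mem_sub isSolvable_of_rel)

/-- the linear maps of determinant one -/
noncomputable def SLg (F V : Type*) [Field F] [AddCommGroup V] [Module F V] : Subgroup (V ≃ₗ[F] V) :=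
  (LinearEquiv.det : (V ≃ₗ[F] V) →* Fˣ).ker

/-- The strong pair theorem for `ΓL₂(F)`. -/
def TwoS (p : ℕ) (F : Type*) [Field F] : Prop :=
  ∀ (c d : Equiv.Perm (Fin 2 → F)) (σ τ : F ≃+* F), Semi σ c → Semi τ d → IsScal F (c ^ p) → ¬ IsScal F c →
    IsScal F (d ^ p) → ¬ IsScal F d → SP F (SLg F (Fin 2 → F)) p c d

variable {F V U : Type*} [Field F] [AddCommGroup V] [Module F V] [AddCommGroup U] [Module F U]
  {Q : QuadraticForm F V} {q : QuadraticForm F U}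

/-! ### translation -/

theorem srow_of_sp {ι : Type} [Fintype ι] [DecidableEq ι] [Nonempty ι] {F : Type*} [Field F] [Finite F]
    {Q : QuadraticForm F (ι → F)} (hG : Good Q) {p : ℕ} (hp : p.Prime) [Finite (Cfsg.POmega F ⇑Q)]
    (hind : ∀ c : MulAut (Cfsg.POmega F ⇑Q), orderOf c = p → ∃ y, H903.SylSemi.SemiO F ⇑Q y ∧
      H903.SylSemi.Ind (H152.MeetOmega.proj ⇑Q) (H152.MeetOmega.rho ⇑Q) y c)
    (hcore : ∀ y z, H903.SylSemi.SemiO F ⇑Q y → H903.SylSemi.SemiO F ⇑Q z → IsScal F (y ^ p) → ¬ IsScal F y →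
      IsScal F (z ^ p) → ¬ IsScal F z → SP F (E Q) p y z) : SRow p (Cfsg.POmega F ⇑Q) := by
  refine SBase.srow_of (F := F) hp (π := H152.MeetOmega.proj ⇑Q) (H152.MeetOmega.proj_surjective _)
    (ρ := H152.MeetOmega.rho ⇑Q) (H152.MeetOmega.rho_injective _) ?_ (W := H903.SylSemi.SemiO F ⇑Q) ?_ ?_ hind
    (fun y hy h1 => H152.MeetOmega.unique hG hy h1) ?_
  · intro s
    refine ⟨fun u v => ?_, fun a v => ?_⟩
    · rw [H152.MeetOmega.rho_apply, H152.MeetOmega.rho_apply, H152.MeetOmega.rho_apply, Matrix.mulVec_add]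
    · rw [H152.MeetOmega.rho_apply, H152.MeetOmega.rho_apply, Matrix.mulVec_smul]; rfl
  · intro y y' h1 h2
    exact H152.MeetOmega.mem_gam_iff.1
      (mul_mem (H152.MeetOmega.mem_gam_iff.2 h1) (H152.MeetOmega.mem_gam_iff.2 h2))
  · intro s
    exact H152.MeetOmega.mem_gam_iff.1 (H152.MeetOmega.rho_mem_gam s)
  · intro y z hy hz hyp hyn hzp hzn
    have key : ∀ g ∈ E Q, ∃ s, H152.MeetOmega.rho ⇑Q s = toA g := by
      intro g hg
      obtain ⟨s, hs⟩ := (AutOrth.Main.oe hG).surjective ⟨g, hg⟩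
      refine ⟨s, ?_⟩
      ext1 v
      rw [H152.MeetOmega.rho_apply, ← AutOrth.Main.oe_apply hG, hs]
      rfl
    obtain ⟨⟨g, hg, h1⟩, ⟨g', hg', h2⟩⟩ := hcore y z hy hz hyp hyn hzp hzn
    obtain ⟨s, hs⟩ := key g hg
    obtain ⟨s', hs'⟩ := key g' hg'
    exact ⟨⟨s, by rw [hs]; exact h1⟩, ⟨s', by rw [hs']; exact h2⟩⟩

/-! ### frames -/

/-- the relation of `Cov` -/
def CovM (j : U →ₗ[F] V) : Submonoid (Equiv.Perm V × Equiv.Perm U) where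
  carrier := {z | Cov j z.1 z.2}
  mul_mem' h h' := Cov.mul h h'
  one_mem' := Cov.one

variable {j j₁ j₂ : U →ₗ[F] V} {x y : Equiv.Perm V} {x' y' : Equiv.Perm U} {p : ℕ}

theorem sp_lift [Finite V] [Finite U] (he : Emb Q q j) (hq : Nondeg q) (hx : Cov j x x') (hy : Cov j y y')
    (h : SP F (E q) p x' y') : SP F (E Q) p x y := by
  refine SP.of_rel (CovM j) (fun z c hz => hz.isScal (he.injective hq)) (fun g hg => ?_) hx hy h
  obtain ⟨G, hG, hGj⟩ := he.E_le hg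
  exact ⟨G, hG, cov_toA hGj⟩

theorem sp_pair [Finite F] [FiniteDimensional F V] [FiniteDimensional F U] (hG : Good Q) (hq : Nondeg q)
    (h3 : 3 ≤ finrank F U) (h₁ : Emb Q q j₁) (h₂ : Emb Q q j₂) (hx : Cov j₁ x x') (hy : Cov j₂ y y')
    (h : ∀ g ∈ O q, SP F (E q) p x' (toA g * y' * (toA g)⁻¹)) : SP F (E Q) p x y := by
  have : Finite V := Module.finite_of_finite F
  have : Finite U := Module.finite_of_finite F
  obtain ⟨T, hT, g, hg, hTj⟩ := exists_common' hG hq h₁ h₂ h3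
  refine SP.conj_right hT ?_
  have hy2 : Cov (T.toLinearMap ∘ₗ j₂) (toA T * y * (toA T)⁻¹) y' := hy.left T
  have hy3 : Cov j₁ (toA T * y * (toA T)⁻¹) (toA g * y' * (toA g)⁻¹) := hy2.right hTj
  exact sp_lift h₁ hq hx hy3 (h g hg)

/-! ### the plus type four-space -/

/-- the relation of the columns -/
def TRM (j : M2 F →ₗ[F] V) : Submonoid (Equiv.Perm V × Equiv.Perm (Fin 2 → F)) where
  carrier := {z | ∃ z', Cov j z.1 z' ∧ (∃ τ : F ≃+* F, Semi τ z.2) ∧ TR z' z.2}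
  mul_mem' := by
    rintro ⟨a, b⟩ ⟨a', b'⟩ ⟨z, h1, ⟨τ, h2⟩, h3⟩ ⟨z', h1', ⟨τ', h2'⟩, h3'⟩
    exact ⟨z * z', h1.mul h1', ⟨τ * τ', h2.mul h2'⟩, TR.mul h2 h3 h3'⟩
  one_mem' := ⟨1, Cov.one, ⟨1, Semi.one⟩, TR.one⟩

theorem sp_core [Finite F] [Finite V] {j : M2 F →ₗ[F] V} (hT : TwoS p F) (he : Emb Q (detQ F) j)
    {x y : Equiv.Perm V} {x' y' : Equiv.Perm (M2 F)} {c d : Equiv.Perm (Fin 2 → F)} {σ τ : F ≃+* F}
    (hx : Cov j x x') (hy : Cov j y y') (hc : Semi σ c) (hd : Semi τ d) (hxc : TR x' c) (hyd : TR y' d)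
    (hxp : IsScal F (x ^ p)) (hyp : IsScal F (y ^ p)) (hcn : ¬ IsScal F c) (hdn : ¬ IsScal F d) :
    SP F (E Q) p x y := by
  have hj := he.injective nondeg_detQ
  have hcp : IsScal F (c ^ p) := (hxc.pow hc p).isScal (hc.pow p) ((hx.pow p).isScal hj hxp)
  have hdp : IsScal F (d ^ p) := (hyd.pow hd p).isScal (hd.pow p) ((hy.pow p).isScal hj hyp)
  refine SP.of_rel (TRM j) ?_ (fun g hg => ?_) ⟨x', hx, ⟨σ, hc⟩, hxc⟩ ⟨y', hy, ⟨τ, hd⟩, hyd⟩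
    (hT c d σ τ hc hd hcp hcn hdp hdn)
  · rintro z c ⟨z', h1, ⟨τ, h2⟩, h3⟩ hz
    exact h3.isScal h2 (h1.isScal hj hz)
  · obtain ⟨G, hG, hGj⟩ := lift_lm he (g := g) hg
    exact ⟨G, hG, ⟨_, cov_toA hGj, ⟨1, semi_toA g⟩, tr_lm g⟩⟩

theorem isScal_conj' {z : Equiv.Perm V} (T : V ≃ₗ[F] V) (h : IsScal F (z ^ p)) :
    IsScal F ((toA T * z * (toA T)⁻¹) ^ p) := by
  rw [conj_pow]
  exact isScal_conj (semi_toA T) h

theorem sp_of_fr4 [Finite F] [FiniteDimensional F V] (hT : TwoS p F) (hG : Good Q) (h7 : 7 ≤ finrank F V)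
    {x y : Equiv.Perm V} (hx : Fr4 Q x) (hy : Fr4 Q y)
    (hxp : IsScal F (x ^ p)) (hyp : IsScal F (y ^ p)) : SP F (E Q) p x y := by
  have : Finite V := Module.finite_of_finite F
  obtain ⟨j₁, x', σ, c, h₁, hx', hc, hxc, hcn⟩ := hx
  obtain ⟨j₂, y', τ, d, h₂, hy', hd, hyd, hdn⟩ := hy
  obtain ⟨T, hT', hTj⟩ := exists_common hG nondeg_detQ h₁ h₂ (by rw [finrank_M2]; omega)
  refine SP.conj_right hT' ?_
  have hj : T.toLinearMap ∘ₗ j₂ = j₁ := LinearMap.ext hTj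
  have hy'' : Cov j₁ (toA T * y * (toA T)⁻¹) y' := by
    rw [← hj]
    exact hy'.left T
  exact sp_core hT h₁ hx' hy'' hc hd hxc hyd hxp (isScal_conj' T hyp) hcn hdn

/-! ### the minus type four-space -/

section minus

open Cfsg.Agent.H862.T5.OMinusFour (VV EE q4 TRE FrE exists_lift nondeg_q4 finrank_VV)

variable {a b : F} [hab : Fact (∀ r : F, r ^ 2 ≠ -b + a * r)]

instance [Finite F] : Finite (EE F a b) := Finite.of_equiv _ (QuadraticAlgebra.equivProd (-b) a).symm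

/-- the relation with the vectors over the quadratic extension -/
def TREM (j : VV F a b →ₗ[F] V) : Submonoid (Equiv.Perm V × Equiv.Perm (Fin 2 → EE F a b)) where
  carrier := {z | ∃ z', Cov j z.1 z' ∧ (∃ σ : F ≃+* F, Semi σ z') ∧ (∃ τ : EE F a b ≃+* EE F a b, Semi τ z.2) ∧
    TRE z' z.2}
  mul_mem' := by
    rintro ⟨a, b⟩ ⟨a', b'⟩ ⟨z, h1, ⟨σ, h0⟩, ⟨τ, h2⟩, h3⟩ ⟨z', h1', ⟨σ', h0'⟩, ⟨τ', h2'⟩, h3'⟩
    exact ⟨z * z', h1.mul h1', ⟨σ * σ', h0.mul h0'⟩, ⟨τ * τ', h2.mul h2'⟩, TRE.mul h0 h3 h3'⟩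
  one_mem' := ⟨1, Cov.one, ⟨1, Semi.one⟩, ⟨1, Semi.one⟩, TRE.one⟩

theorem sp_coreE [Finite F] [Finite V] {j : VV F a b →ₗ[F] V} (hT : TwoS p (EE F a b)) (he : Emb Q (q4 F a b) j)
    {x y : Equiv.Perm V} {x' y' : Equiv.Perm (VV F a b)} {c d : Equiv.Perm (Fin 2 → EE F a b)}
    {σ' τ' : F ≃+* F} {σ τ : EE F a b ≃+* EE F a b} (hxs : Semi σ' x') (hys : Semi τ' y')
    (hx : Cov j x x') (hy : Cov j y y') (hc : Semi σ c) (hd : Semi τ d) (hxc : TRE x' c) (hyd : TRE y' d)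
    (hxp : IsScal F (x ^ p)) (hyp : IsScal F (y ^ p)) (hcn : ¬ IsScal (EE F a b) c)
    (hdn : ¬ IsScal (EE F a b) d) : SP F (E Q) p x y := by
  have hj := he.injective nondeg_q4
  have hcp : IsScal (EE F a b) (c ^ p) := (hxc.pow hxs p).isScal (hc.pow p) ((hx.pow p).isScal hj hxp)
  have hdp : IsScal (EE F a b) (d ^ p) := (hyd.pow hys p).isScal (hd.pow p) ((hy.pow p).isScal hj hyp)
  refine SP.of_rel (TREM j) ?_ (fun g hg => ?_) ⟨x', hx, ⟨σ', hxs⟩, ⟨σ, hc⟩, hxc⟩ ⟨y', hy, ⟨τ', hys⟩, ⟨τ, hd⟩, hyd⟩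
    (hT c d σ τ hc hd hcp hcn hdp hdn)
  · rintro z c ⟨z', h1, ⟨σ, h0⟩, ⟨τ, h2⟩, h3⟩ hz
    exact h3.isScal h2 (h1.isScal hj hz)
  · obtain ⟨f, ⟨G, hG, hGj⟩, hf1, -⟩ := exists_lift he (g := g) hg
    exact ⟨G, hG, ⟨_, cov_toA hGj, ⟨1, semi_toA f⟩, ⟨1, semi_toA g⟩, hf1⟩⟩

theorem sp_of_frE [Finite F] [FiniteDimensional F V] (hT : TwoS p (EE F a b)) (hG : Good Q) (h7 : 7 ≤ finrank F V)
    {x y : Equiv.Perm V} (hx : FrE Q a b x) (hy : FrE Q a b y)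
    (hxp : IsScal F (x ^ p)) (hyp : IsScal F (y ^ p)) : SP F (E Q) p x y := by
  have : Finite V := Module.finite_of_finite F
  obtain ⟨j₁, x', σ', σ, c, h₁, hx', hxs, hc, hxc, hcn⟩ := hx
  obtain ⟨j₂, y', τ', τ, d, h₂, hy', hys, hd, hyd, hdn⟩ := hy
  obtain ⟨T, hT', hTj⟩ := exists_common hG nondeg_q4 h₁ h₂ (by rw [finrank_VV]; omega)
  refine SP.conj_right hT' ?_
  have hj : T.toLinearMap ∘ₗ j₂ = j₁ := LinearMap.ext hTj
  have hy'' : Cov j₁ (toA T * y * (toA T)⁻¹) y' := by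
    rw [← hj]
    exact hy'.left T
  exact sp_coreE hT h₁ hxs hys hx' hy'' hc hd hxc hyd hxp (isScal_conj' T hyp) hcn hdn

end minus

end Cfsg.Agent.H862.S5.SOrth
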