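import Cfsg.Agent.H862.S5.SMain
import Cfsg.Agent.H164.RowCongr

/-!
# The strong rows of the orthogonal groups in cross characteristic (S2274; helper862)

`pomegaOdd_srow`, `pomegaPlus_srow`, `pomegaMinus_srow` from `AAHyp`, `RSHyp` and `TwoS` (all fields).
-/

set_option autoImplicit false
set_option linter.unusedSectionVars false

namespace Cfsg.Agent.H862.S5.SRowO

open QuadraticMap Module Cfsg.Agent.LieClassical.OrthCore Cfsg.Agent.LieClassical.OrthTrans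
  Cfsg.Agent.ClassicalGeometry.OrthSemi Cfsg.Agent.ClassicalGeometry.OrthAut1
open Cfsg.Agent.LieClassical.QuadForms
open Cfsg.Agent.H208.ConjSS (exists_normal isSS_scal_mul Psi_scal nontrivial_of_good)
open Cfsg.Agent.H862.T5.OBase Cfsg.Agent.H862.T5.OFrame Cfsg.Agent.H862.T5.OMain
open Cfsg.Agent.H862.T5.ORow (exists_norm cast_ne)
open Cfsg.Agent.H957.T5V Cfsg.Agent.H957.T5M
open Cfsg.Agent.H208.Parity (ofO)
open Cfsg.Agent.H106.MT Cfsg.Agent.H106.MB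
open Cfsg.Agent.H132.S5 (RSHyp)
open Cfsg.Agent.H533.T5 (SRow)
open Cfsg.Agent.H862.S5.SBase (SP)
open Cfsg.Agent.H862.S5.SOrth Cfsg.Agent.H862.S5.SBlock Cfsg.Agent.H862.S5.SMain

universe u

section

variable {F V : Type u} [Field F] [Fintype F] [AddCommGroup V] [Module F V] [FiniteDimensional F V]
  {Q : QuadraticForm F V}

/-- **The strong pair predicate for semisimilitudes.** -/
theorem sp_gam {p : ℕ} (hAA : AAHyp.{u} p) (hRS : RSHyp.{u} p)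
    (hT2 : ∀ (K : Type u) [Field K] [Finite K], (p : K) ≠ 0 → TwoS p K) [hp : Fact p.Prime]
    (hG : Good Q) (h7 : 7 ≤ finrank F V)
    (hp5 : 5 ≤ p) (hpF : (p : F) ≠ 0) (X Y : Gam Q) (hXp : IsScal F (X.1 ^ p)) (hXn : ¬ IsScal F X.1)
    (hYp : IsScal F (Y.1 ^ p)) (hYn : ¬ IsScal F Y.1) : SP F (E Q) p X.1 Y.1 := by
  have : Finite V := Module.finite_of_finite F
  rcases exists_norm hp.out (by omega) hG X hXp hXn with ⟨g₁, h₁, s₁⟩ | ⟨σ₁, M₁, h₁, s₁⟩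
  · rcases exists_norm hp.out (by omega) hG Y hYp hYn with ⟨g₂, h₂, s₂⟩ | ⟨σ₂, M₂, h₂, s₂⟩
    · exact SP.of_scl (semi_toA g₁) (semi_toA g₂) s₁ s₂ (sp_ll hAA hRS hT2 hG h7 hp5 hpF h₁ h₂)
    · obtain ⟨c₂, k₂⟩ := h₂.1
      exact SP.of_scl (semi_toA g₁) ⟨k₂.add, k₂.smul⟩ s₁ s₂ (sp_ln hAA hRS hT2 hG h7 hp5 hpF h₁ h₂)
  · obtain ⟨c₁, k₁⟩ := h₁.1
    rcases exists_norm hp.out (by omega) hG Y hYp hYn with ⟨g₂, h₂, s₂⟩ | ⟨σ₂, M₂, h₂, s₂⟩
    · exact SP.of_scl ⟨k₁.add, k₁.smul⟩ (semi_toA g₂) s₁ s₂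
        (SP.symm (semi_toA g₂) (sp_ln hAA hRS hT2 hG h7 hp5 hpF h₂ h₁))
    · obtain ⟨c₂, k₂⟩ := h₂.1
      exact SP.of_scl ⟨k₁.add, k₁.smul⟩ ⟨k₂.add, k₂.smul⟩ s₁ s₂ (sp_of_fr4 (hT2 F hpF) hG h7 (h₁.fr4 hp.out hG)
        (h₂.fr4 hp.out hG) h₁.isScal h₂.isScal)

end

/-- the row for a good form -/
theorem srow_good {ι F : Type} [Fintype ι] [DecidableEq ι] [Nonempty ι] [Field F] [Fintype F]
    {Q : QuadraticForm F (ι → F)} (hG : Good Q) (h7 : 7 ≤ Fintype.card ι) {p : ℕ} (hAA : AAHyp.{0} p) (hRS : RSHyp.{0} p)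
    (hT2 : ∀ (K : Type) [Field K] [Finite K], (p : K) ≠ 0 → TwoS p K)
    (hp : p.Prime) (hp5 : 5 ≤ p) (hpF : (p : F) ≠ 0)
    (hind : ∀ c : MulAut (Cfsg.POmega F ⇑Q), orderOf c = p → ∃ y, H903.SylSemi.SemiO F ⇑Q y ∧
      H903.SylSemi.Ind (H152.MeetOmega.proj ⇑Q) (H152.MeetOmega.rho ⇑Q) y c) : SRow p (Cfsg.POmega F ⇑Q) := by
  have := Fact.mk hp
  refine srow_of_sp hG hp hind fun y z hy hz hyp hyn hzp hzn => ?_
  exact sp_gam hAA hRS hT2 hG (by rwa [Module.finrank_fintype_fun_eq_card]) hp5 hpF ⟨y, H152.MeetOmega.mem_gam_iff.2 hy⟩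
    ⟨z, H152.MeetOmega.mem_gam_iff.2 hz⟩ hyp hyn hzp hzn

/-- **The strong row for `PΩ_{2m+1}(q)`**, cross characteristic. -/
theorem pomegaOdd_srow {S : Type*} [Group S] (hS : Cfsg.IsPOmegaOdd S) {p : ℕ} (hp : p.Prime) (hp5 : 5 ≤ p)
    (hch : ¬ Cfsg.IsPOmegaOddChar p S) (hAA : AAHyp.{0} p) (hRS : RSHyp.{0} p)
    (hT2 : ∀ (K : Type) [Field K] [Finite K], (p : K) ≠ 0 → TwoS p K) : SRow p S := by
  obtain ⟨F, _, _, m, hm, hq, ⟨e⟩⟩ := hS
  have hpF : (p : F) ≠ 0 := cast_ne hp (by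
    rintro ⟨hF⟩
    exact hch ⟨F, _, _, hF, m, hm, hq, ⟨e⟩⟩)
  have h2 : (2 : F) ≠ 0 := by
    intro h
    have h3 : CharP F 2 := CharTwo.of_one_ne_zero_of_two_eq_zero one_ne_zero h
    have h4 := FiniteField.even_card_iff_char_two.1 (ringChar.eq F 2 ▸ rfl : ringChar F = 2)
    rw [Nat.odd_iff] at hq
    omega
  have hG := AutOrth.Main.good_odd (F := F) (m := m) (by omega) h2
  refine Cfsg.Agent.H164.RowCongr.srow_congr hp e.symm ?_
  have hind : ∀ c : MulAut (Cfsg.POmega F (Cfsg.quadFormOdd m F)), orderOf c = p →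
      ∃ y, H903.SylSemi.SemiO F (Cfsg.quadFormOdd m F) y ∧
      H903.SylSemi.Ind (H152.MeetOmega.proj (Cfsg.quadFormOdd m F)) (H152.MeetOmega.rho (Cfsg.quadFormOdd m F)) y c :=
    fun c _ => H152.MeetOmega.gamma_odd hm h2 c
  rw [← coe_oddForm] at hind ⊢
  exact srow_good hG (by simp only [Fintype.card_sum, Fintype.card_fin, Fintype.card_unit]; omega) hAA hRS hT2 hp hp5 hpF hind

/-- **The strong row for `PΩ⁺_{2m}(q)`**, cross characteristic. -/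
theorem pomegaPlus_srow {S : Type*} [Group S] (hS : Cfsg.IsPOmegaPlus S) {p : ℕ} (hp : p.Prime) (hp5 : 5 ≤ p)
    (hch : ¬ Cfsg.IsPOmegaPlusChar p S) (hAA : AAHyp.{0} p) (hRS : RSHyp.{0} p)
    (hT2 : ∀ (K : Type) [Field K] [Finite K], (p : K) ≠ 0 → TwoS p K) : SRow p S := by
  obtain ⟨F, _, _, m, hm, ⟨e⟩⟩ := hS
  have := Fact.mk hp
  have hpF : (p : F) ≠ 0 := cast_ne hp (by
    rintro ⟨hF⟩
    exact hch ⟨F, inferInstance, inferInstance, hF, m, hm, ⟨e⟩⟩)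
  have hG := AutOrth.Main.good_plus (F := F) (m := m) (by omega)
  have : Nonempty (Fin m ⊕ Fin m) := ⟨.inl ⟨0, by omega⟩⟩
  refine Cfsg.Agent.H164.RowCongr.srow_congr hp e.symm ?_
  have hind : ∀ c : MulAut (Cfsg.POmega F (Cfsg.quadFormPlus m F)), orderOf c = p →
      ∃ y, H903.SylSemi.SemiO F (Cfsg.quadFormPlus m F) y ∧
      H903.SylSemi.Ind (H152.MeetOmega.proj (Cfsg.quadFormPlus m F)) (H152.MeetOmega.rho (Cfsg.quadFormPlus m F))
        y c := by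
    intro c hc
    refine H152.MeetOmega.gamma_plus hp5 hm (P := Subgroup.zpowers c) ?_ c (Subgroup.mem_zpowers c)
    exact IsPGroup.of_card (n := 1) (by rw [Nat.card_zpowers, hc, pow_one])
  rw [← coe_plusForm] at hind ⊢
  exact srow_good hG (by simp only [Fintype.card_sum, Fintype.card_fin]; omega) hAA hRS hT2 hp hp5 hpF hind

/-- **The strong row for `PΩ⁻_{2m}(q)`**, cross characteristic. -/
theorem pomegaMinus_srow {S : Type*} [Group S] (hS : Cfsg.IsPOmegaMinus S) {p : ℕ} (hp : p.Prime) (hp5 : 5 ≤ p)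
    (hch : ¬ Cfsg.IsPOmegaMinusChar p S) (hAA : AAHyp.{0} p) (hRS : RSHyp.{0} p)
    (hT2 : ∀ (K : Type) [Field K] [Finite K], (p : K) ≠ 0 → TwoS p K) : SRow p S := by
  obtain ⟨F, _, _, m, a, b, hm, hab, ⟨e⟩⟩ := hS
  have hpF : (p : F) ≠ 0 := cast_ne hp (by
    rintro ⟨hF⟩
    exact hch ⟨F, inferInstance, inferInstance, hF, m, a, b, hm, hab, ⟨e⟩⟩)
  have hG := AutOrth.Main.good_minus (F := F) (m := m - 1) (by omega) hab
  refine Cfsg.Agent.H164.RowCongr.srow_congr hp e.symm ?_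
  have hind : ∀ c : MulAut (Cfsg.POmega F (Cfsg.quadFormMinus (m - 1) F a b)), orderOf c = p →
      ∃ y, H903.SylSemi.SemiO F (Cfsg.quadFormMinus (m - 1) F a b) y ∧
      H903.SylSemi.Ind (H152.MeetOmega.proj (Cfsg.quadFormMinus (m - 1) F a b))
        (H152.MeetOmega.rho (Cfsg.quadFormMinus (m - 1) F a b)) y c :=
    fun c _ => H152.MeetOmega.gamma_minus (by omega) hab c
  rw [← coe_minusForm] at hind ⊢
  exact srow_good hG (by simp only [Fintype.card_sum, Fintype.card_fin]; omega) hAA hRS hT2 hp hp5 hpF hind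

end Cfsg.Agent.H862.S5.SRowO
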